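import Mathlib

/-!
Endomorphisms of a four-group.
-/

set_option autoImplicit false

namespace Cfsg.Agent.ClassTech.SCNFour

/-- The model four-group. -/
abbrev V2 := ZMod 2 × ZMod 2

/-- The endomorphism with the given images of the two basis vectors. -/
def lin (F : V2 × V2) (v : V2) : V2 :=
  (v.1 * F.1.1 + v.2 * F.2.1, v.1 * F.1.2 + v.2 * F.2.2)

/-- An endomorphism together with its conjugate under the standard automorphism of order three. -/
def conjLin (F : V2 × V2) (v : V2) : V2 :=
  lin ((0, 1), (1, 1)) (lin F (lin ((1, 1), (1, 0)) v))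

theorem conjLin_eq : ∀ v : V2, lin ((0, 1), (1, 1)) (lin ((1, 1), (1, 0)) v) = v := by decide

theorem dec_zero_or_inj : ∀ F : V2 × V2,
    (∀ v, lin F v + conjLin F v = 0) ∨ (∀ v, lin F v + conjLin F v = 0 → v = 0) := by
  decide +kernel

theorem dec_idem : ∀ F : V2 × V2, (∀ v, lin F (lin F v) = lin F v) →
    (∀ v, lin F (conjLin F v) = conjLin F (lin F v)) → ∀ v, conjLin F v = lin F v := by
  decide +kernel

theorem dec_singular : ∀ F : V2 × V2, (∀ v, lin F v = 0 → v = 0) ∨ (∀ v, lin F v = 0) ∨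
    (∀ v, lin F v + conjLin F v = 0 → v = 0) := by
  decide +kernel

/-- `F` fixes a nonzero vector. -/
def Fixes (F : V2 × V2) : Prop :=
  lin F (1, 0) = (1, 0) ∨ lin F (0, 1) = (0, 1) ∨ lin F (1, 1) = (1, 1)

instance : DecidablePred Fixes := fun F => by unfold Fixes; infer_instance

theorem dec_fixes : ∀ F : V2 × V2, Fixes F → ∀ G : V2 × V2, Fixes G → Fixes (F + G) →
    ∀ H : V2 × V2, Fixes H → Fixes (F + H) → Fixes (G + H) → Fixes (F + G + H) → False := by
  decide +kernel

variable {X : Type*} [Group X]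

theorem comm_of_sq {W : Subgroup X} (hsq : ∀ w : W, w * w = 1) (a b : W) : a * b = b * a := by
  have h := hsq (a * b)
  calc a * b = a * (a * b * (a * b)) * b := by rw [h, mul_one]
    _ = b * a := by
      rw [show a * (a * b * (a * b)) * b = (a * a) * (b * a) * (b * b) by simp only [mul_assoc],
        hsq, hsq, one_mul, mul_one]

/-- A basis of a four-group. -/
theorem exists_equiv (W : Subgroup X) [Finite W] (hW4 : Nat.card W = 4) (hsq : ∀ w : W, w * w = 1)
    {u v : W} (hu : u ≠ 1) (hv : v ≠ 1) (huv : u ≠ v) :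
    ∃ e : V2 ≃ W, e (1, 0) = u ∧ e (0, 1) = v ∧ e 0 = 1 ∧ ∀ x y, e (x + y) = e x * e y := by
  have hc : ∀ a b : W, a * b = b * a := fun a b => by
    have h := hsq (a * b)
    calc a * b = a * (a * b * (a * b)) * b := by rw [h, mul_one]
      _ = b * a := by
        rw [show a * (a * b * (a * b)) * b = (a * a) * (b * a) * (b * b) by simp only [mul_assoc],
          hsq, hsq, one_mul, mul_one]
  let f : V2 → W := fun x => u ^ x.1.val * v ^ x.2.val
  have hp : ∀ a : W, ∀ i j : ZMod 2, a ^ (i + j).val = a ^ i.val * a ^ j.val := fun a i j => by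
    rw [← pow_add, ZMod.val_add]
    exact (pow_eq_pow_mod _ (by rw [pow_two]; exact hsq a)).symm
  have hadd : ∀ x y, f (x + y) = f x * f y := fun x y => by
    show u ^ (x.1 + y.1).val * v ^ (x.2 + y.2).val = _
    rw [hp, hp, mul_assoc, ← mul_assoc (u ^ y.1.val), hc (u ^ y.1.val) (v ^ x.2.val)]
    simp only [f, mul_assoc]
  have h0 : f 0 = 1 := by simp [f]
  have huv' : u * v ≠ 1 := fun h => huv (mul_right_cancel (h.trans (hsq v).symm))
  have hinj : Function.Injective f := by
    intro x y hxy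
    have h1 : f (x + y) = 1 := by rw [hadd, hxy, hsq]
    have key : ∀ z : V2, f z = 1 → z = 0 := by
      intro z hz
      have hall : ∀ i : ZMod 2, i = 0 ∨ i = 1 := by decide
      obtain ⟨i, j⟩ := z
      rcases hall i with rfl | rfl <;> rcases hall j with rfl | rfl
      · rfl
      · exact absurd (by simpa [f, show (1 : ZMod 2).val = 1 from rfl] using hz) hv
      · exact absurd (by simpa [f, show (1 : ZMod 2).val = 1 from rfl] using hz) hu
      · exact absurd (by simpa [f, show (1 : ZMod 2).val = 1 from rfl] using hz) huv'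
    have h2 : ∀ a b : V2, a + b = 0 → a = b := by decide
    exact h2 x y (key _ h1)
  refine ⟨Equiv.ofBijective f ((Nat.bijective_iff_injective_and_card f).mpr ⟨hinj, ?_⟩),
    by simp [f, show (1 : ZMod 2).val = 1 from rfl], by simp [f, show (1 : ZMod 2).val = 1 from rfl], h0, hadd⟩
  rw [hW4, Nat.card_prod, Nat.card_zmod]

/-- The model of an endomorphism. -/
theorem exists_model {W : Subgroup X} (e : V2 ≃ W) (hadd : ∀ x y, e (x + y) = e x * e y)
    (h0 : e 0 = 1) (f : W →* W) : ∃ F : V2 × V2, ∀ v, f (e v) = e (lin F v) := by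
  refine ⟨(e.symm (f (e (1, 0))), e.symm (f (e (0, 1)))), fun v => ?_⟩
  have hall : ∀ i : ZMod 2, i = 0 ∨ i = 1 := by decide
  obtain ⟨i, j⟩ := v
  have h11 : f (e ((1, 1) : V2)) = e (e.symm (f (e (1, 0))) + e.symm (f (e (0, 1)))) := by
    rw [hadd, Equiv.apply_symm_apply, Equiv.apply_symm_apply,
      show ((1, 1) : V2) = (1, 0) + (0, 1) by decide, hadd, map_mul]
  rcases hall i with rfl | rfl <;> rcases hall j with rfl | rfl
  · rw [show lin (e.symm (f (e (1, 0))), e.symm (f (e (0, 1)))) ((0, 0) : V2) = 0 from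
      Prod.ext (by simp [lin]) (by simp [lin]), show ((0, 0) : V2) = 0 from rfl, h0, map_one]
  · rw [show lin (e.symm (f (e (1, 0))), e.symm (f (e (0, 1)))) ((0, 1) : V2) =
      e.symm (f (e (0, 1))) from Prod.ext (by simp [lin]) (by simp [lin]), Equiv.apply_symm_apply]
  · rw [show lin (e.symm (f (e (1, 0))), e.symm (f (e (0, 1)))) ((1, 0) : V2) =
      e.symm (f (e (1, 0))) from Prod.ext (by simp [lin]) (by simp [lin]), Equiv.apply_symm_apply]
  · rw [show lin (e.symm (f (e (1, 0))), e.symm (f (e (0, 1)))) ((1, 1) : V2) =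
      e.symm (f (e (1, 0))) + e.symm (f (e (0, 1))) from Prod.ext (by simp [lin]) (by simp [lin]), h11]

section Rotation

variable {W : Subgroup X} [Finite W] (a : W ≃* W)

theorem exists_rotation_model (hW4 : Nat.card W = 4) (hsq : ∀ w : W, w * w = 1)
    (hfree : ∀ w, a w = w → w = 1) :
    ∃ e : V2 ≃ W, e 0 = 1 ∧ (∀ x y, e (x + y) = e x * e y) ∧
      (∀ v, a (e v) = e (lin ((0, 1), (1, 1)) v)) ∧
      ∀ v, a.symm (e v) = e (lin ((1, 1), (1, 0)) v) := by
  obtain ⟨u, hu⟩ : ∃ u : W, u ≠ 1 := by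
    haveI : Nontrivial W := Finite.one_lt_card_iff_nontrivial.mp (by omega)
    exact exists_ne 1
  have hau : a u ≠ 1 := fun h => hu (a.injective (h.trans (map_one a).symm))
  have hne : u ≠ a u := fun h => hu (hfree u h.symm)
  obtain ⟨e, he1, he2, h0, hadd⟩ := exists_equiv W hW4 hsq hu hau hne
  have h11 : a (e (0, 1)) = e (1, 1) := by
    obtain ⟨v, hv⟩ := e.surjective (a (e (0, 1)))
    have hall : ∀ v : V2, v = 0 ∨ v = (1, 0) ∨ v = (0, 1) ∨ v = (1, 1) := by decide
    rcases hall v with rfl | rfl | rfl | rfl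
    · exact absurd (a.injective ((hv.symm.trans h0).trans (map_one a).symm)) (by rw [he2]; exact hau)
    · exfalso
      rw [he2, he1] at hv
      have : a (u * a u) = u * a u := by
        rw [map_mul, ← hv]
        exact comm_of_sq hsq _ _
      exact hne (mul_right_cancel ((hfree _ this).trans (hsq (a u)).symm))
    · exact absurd (hfree _ hv.symm) (by rw [he2]; exact hau)
    · exact hv.symm
  have ha : ∀ v, a (e v) = e (lin ((0, 1), (1, 1)) v) := by
    obtain ⟨F, hF⟩ := exists_model e hadd h0 (a : W →* W)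
    have h1 : lin F (1, 0) = ((0, 1) : V2) :=
      e.injective ((hF (1, 0)).symm.trans (by show a (e (1, 0)) = _; rw [he1, he2]))
    have h2 : lin F (0, 1) = ((1, 1) : V2) :=
      e.injective ((hF (0, 1)).symm.trans h11)
    have hgen : ∀ F : V2 × V2, lin F (1, 0) = ((0, 1) : V2) → lin F (0, 1) = ((1, 1) : V2) →
        F = ((0, 1), (1, 1)) := by decide +kernel
    intro v
    rw [← hgen F h1 h2]
    exact hF v
  exact ⟨e, h0, hadd, ha, fun v => by
    rw [MulEquiv.symm_apply_eq, ha, conjLin_eq]⟩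

variable (hW4 : Nat.card W = 4) (hsq : ∀ w : W, w * w = 1) (hfree : ∀ w, a w = w → w = 1)

include hW4 hsq hfree

/-- The sum of an endomorphism and its conjugate is trivial or injective. -/
theorem zero_or_inj (f : W →* W) :
    (∀ w, f w * a (f (a.symm w)) = 1) ∨ (∀ w, f w * a (f (a.symm w)) = 1 → w = 1) := by
  obtain ⟨e, h0, hadd, ha, has⟩ := exists_rotation_model a hW4 hsq hfree
  obtain ⟨F, hF⟩ := exists_model e hadd h0 f
  have key : ∀ v, f (e v) * a (f (a.symm (e v))) = e (lin F v + conjLin F v) := fun v => by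
    rw [hF, has, hF, ha, hadd]; rfl
  rcases dec_zero_or_inj F with h | h
  · refine Or.inl fun w => ?_
    obtain ⟨v, rfl⟩ := e.surjective w
    rw [key, h, h0]
  · refine Or.inr fun w hw => ?_
    obtain ⟨v, rfl⟩ := e.surjective w
    rw [key, ← h0] at hw
    rw [h v (e.injective hw), h0]

/-- An idempotent endomorphism commuting with its conjugate equals it. -/
theorem idem_conj (f : W →* W) (hf : ∀ w, f (f w) = f w)
    (hc : ∀ w, f (a (f (a.symm w))) = a (f (a.symm (f w)))) : ∀ w, a (f (a.symm w)) = f w := by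
  obtain ⟨e, h0, hadd, ha, has⟩ := exists_rotation_model a hW4 hsq hfree
  obtain ⟨F, hF⟩ := exists_model e hadd h0 f
  have key : ∀ v, a (f (a.symm (e v))) = e (conjLin F v) := fun v => by
    rw [has, hF, ha]; rfl
  have h := dec_idem F (fun v => e.injective (by rw [← hF, ← hF, hf]))
    (fun v => e.injective (by rw [← hF, ← key, hc, hF, key]))
  intro w
  obtain ⟨v, rfl⟩ := e.surjective w
  rw [key, hF, h]

/-- A nontrivial singular endomorphism becomes injective after adding its conjugate. -/
theorem inj_or_sum_inj (f : W →* W) :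
    (∀ w, f w = 1 → w = 1) ∨ (∀ w, f w = 1) ∨ (∀ w, f w * a (f (a.symm w)) = 1 → w = 1) := by
  obtain ⟨e, h0, hadd, ha, has⟩ := exists_rotation_model a hW4 hsq hfree
  obtain ⟨F, hF⟩ := exists_model e hadd h0 f
  have key : ∀ v, f (e v) * a (f (a.symm (e v))) = e (lin F v + conjLin F v) := fun v => by
    rw [hF, has, hF, ha, hadd]; rfl
  rcases dec_singular F with h | h | h
  · refine Or.inl fun w hw => ?_
    obtain ⟨v, rfl⟩ := e.surjective w
    rw [hF, ← h0] at hw
    rw [h v (e.injective hw), h0]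
  · refine Or.inr (Or.inl fun w => ?_)
    obtain ⟨v, rfl⟩ := e.surjective w
    rw [hF, h, h0]
  · refine Or.inr (Or.inr fun w hw => ?_)
    obtain ⟨v, rfl⟩ := e.surjective w
    rw [key, ← h0] at hw
    rw [h v (e.injective hw), h0]

end Rotation

/-- The endomorphisms `f` of `W` with nontrivial fixed point. -/
def HasFixed (W : Subgroup X) (f : W → W) : Prop := ∃ w : W, w ≠ 1 ∧ f w = w

/-- There are no three independent endomorphisms all whose combinations have nontrivial fixed points. -/
theorem no_three_fixes {W : Subgroup X} [Finite W] (hW4 : Nat.card W = 4) (hsq : ∀ w : W, w * w = 1)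
    (f g h : W →* W) (h1 : HasFixed W f) (h2 : HasFixed W g) (h3 : HasFixed W h)
    (h12 : HasFixed W fun w => f w * g w) (h13 : HasFixed W fun w => f w * h w)
    (h23 : HasFixed W fun w => g w * h w) (h123 : HasFixed W fun w => f w * g w * h w) : False := by
  obtain ⟨u, hu, hfu⟩ := h1
  obtain ⟨v, hv, huv⟩ : ∃ v : W, v ≠ 1 ∧ u ≠ v := by
    classical
    haveI := Fintype.ofFinite W
    obtain ⟨v, hv⟩ : ∃ v, v ∉ ({1, u} : Finset W) := by
      by_contra hall
      push Not at hall
      have h1 : ({1, u} : Finset W) = Finset.univ := Finset.eq_univ_iff_forall.mpr hall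
      have h2 := Finset.card_univ (α := W)
      rw [← h1, ← Nat.card_eq_fintype_card, hW4] at h2
      have := Finset.card_le_two (a := (1 : W)) (b := u)
      omega
    simp only [Finset.mem_insert, Finset.mem_singleton, not_or] at hv
    exact ⟨v, hv.1, Ne.symm hv.2⟩
  obtain ⟨e, -, -, h0, hadd⟩ := exists_equiv W hW4 hsq hu hv huv
  obtain ⟨F, hF⟩ := exists_model e hadd h0 f
  obtain ⟨G, hG⟩ := exists_model e hadd h0 g
  obtain ⟨H, hH⟩ := exists_model e hadd h0 h
  have hfix : ∀ (F : V2 × V2) (f : W → W), (∀ v, f (e v) = e (lin F v)) → HasFixed W f → Fixes F := by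
    intro F f hF hf
    obtain ⟨w, hw, hfw⟩ := hf
    obtain ⟨v, rfl⟩ := e.surjective w
    have hv' : lin F v = v := e.injective (by rw [← hF, hfw])
    have hall : ∀ v : V2, v = 0 ∨ v = (1, 0) ∨ v = (0, 1) ∨ v = (1, 1) := by decide
    rcases hall v with rfl | rfl | rfl | rfl
    · exact absurd h0 hw
    · exact Or.inl hv'
    · exact Or.inr (Or.inl hv')
    · exact Or.inr (Or.inr hv')
  have hlin : ∀ F G : V2 × V2, ∀ v, lin (F + G) v = lin F v + lin G v := by
    intro F G v
    simp [lin, mul_add]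
    constructor <;> ring
  exact dec_fixes F (hfix F f hF ⟨u, hu, hfu⟩) G (hfix G g hG h2)
    (hfix _ (fun w => f w * g w) (fun v => by rw [hlin, hadd, hF, hG]) h12) H (hfix H h hH h3)
    (hfix _ (fun w => f w * h w) (fun v => by rw [hlin, hadd, hF, hH]) h13)
    (hfix _ (fun w => g w * h w) (fun v => by rw [hlin, hadd, hG, hH]) h23)
    (hfix _ (fun w => f w * g w * h w) (fun v => by rw [hlin, hlin, hadd, hadd, hF, hG, hH]) h123)

end Cfsg.Agent.ClassTech.SCNFour
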