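import Cfsg.Prelude.Def_Transfer
import Cfsg.Prelude.Def_CaseTheorems
import Cfsg.Agent.Lib.PGroup.NormalAbelian
import Cfsg.Agent.ClassTech.SCNFour.Planar

/-!
Two-groups all of whose squares lie in a central four-group containing all involutions.
-/

set_option autoImplicit false

namespace Cfsg.Agent.ClassTech.SCNFour

open Subgroup
open scoped commutatorElement

variable {X : Type*} [Group X] [Finite X]

/-- Every normal elementary abelian subgroup is small. -/
def Small (X : Type*) [Group X] : Prop :=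
  ∀ E : Subgroup X, E.Normal → IsMulCommutative E → (∀ e ∈ E, e * e = 1) → Nat.card E ≤ 4

theorem small_of_no_scn (hX : IsPGroup 2 X)
    (hscn : ¬ ∃ A : Subgroup X, A.Normal ∧ Subgroup.centralizer (A : Set X) = A ∧
      ∃ E : Subgroup X, E ≤ A ∧ Cfsg.IsElementaryAbelian 2 E ∧ Nat.card E = 8) : Small X := by
  haveI : Fact (Nat.Prime 2) := ⟨Nat.prime_two⟩
  intro E hEn hEc hEe
  by_contra hlt
  push Not at hlt
  haveI := hEn
  obtain ⟨n, hn⟩ := PGroup.exists_card_eq_pow hX E
  have hn3 : 3 ≤ n := by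
    by_contra h
    have : 2 ^ n ≤ 2 ^ 2 := Nat.pow_le_pow_right (by norm_num) (by omega)
    omega
  obtain ⟨F, hFE, -, hFc⟩ := PGroup.exists_normal_le_card hX E 3 hn hn3
  obtain ⟨M, hEM, hMn, hMc, hmax⟩ := PGroup.exists_maximal_normal_abelian hEc
  haveI := hMn
  refine hscn ⟨M, hMn, PGroup.centralizer_eq_of_maximal hX hMc hmax, F, hFE.trans hEM, ⟨?_, ?_⟩, hFc⟩
  · exact ⟨⟨fun a b => Subtype.ext
      (congrArg Subtype.val (hEc.is_comm.comm (⟨a, hFE a.2⟩ : E) ⟨b, hFE b.2⟩) : _)⟩⟩
  · intro a ha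
    rw [pow_two]; exact hEe a (hFE ha)

/-- A central four-group absorbs involutions central modulo it. -/
theorem mem_of_sq_eq_one (hs : Small X) {W : Subgroup X} (hWc : W ≤ center X) (hW4 : Nat.card W = 4)
    (hWe : ∀ w ∈ W, w * w = 1) {x : X} (hx : x * x = 1) (hxc : ∀ g : X, ⁅g, x⁆ ∈ W) : x ∈ W := by
  haveI : W.Normal := ⟨fun w hw g => by
    rwa [mem_center_iff.mp (hWc hw) g, mul_inv_cancel_right]⟩
  set E := W ⊔ zpowers x with hE
  have hWab : IsMulCommutative W := ⟨⟨fun a b => Subtype.ext (mem_center_iff.mp (hWc b.2) a)⟩⟩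
  have hEc : IsMulCommutative E := PGroup.isMulCommutative_sup_zpowers hWab
    (mem_centralizer_iff.mpr fun w hw => (mem_center_iff.mp (hWc hw) x).symm)
  have hEe : ∀ e ∈ E, e * e = 1 := by
    intro e he
    obtain ⟨w, hw, z, hz, rfl⟩ := mem_sup_of_normal_left.mp he
    obtain ⟨i, rfl⟩ := mem_zpowers_iff.mp hz
    have hzz : x ^ i * x ^ i = 1 := by rw [← (Commute.refl x).mul_zpow, hx, one_zpow]
    calc w * x ^ i * (w * x ^ i) = (w * w) * (x ^ i * x ^ i) := by
          rw [mul_assoc, ← mul_assoc (x ^ i) w, mem_center_iff.mp (hWc hw) (x ^ i), mul_assoc, ← mul_assoc]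
      _ = 1 := by rw [hWe w hw, hzz, one_mul]
  have hEn : E.Normal := PGroup.normal_of_comm_mem (A := W) le_sup_left fun g e he => by
    obtain ⟨w, hw, z, hz, rfl⟩ := mem_sup_of_normal_left.mp he
    obtain ⟨i, rfl⟩ := mem_zpowers_iff.mp hz
    have h1 : ⁅g, w * x ^ i⁆ = ⁅g, x ^ i⁆ := by
      rw [PGroup.commutatorElement_mul_right_of_mem_center]
      · rw [commutatorElement_eq_one_iff_mul_comm.mpr (mem_center_iff.mp (hWc hw) g), one_mul]
      · exact hWc (by
          rcases Int.even_or_odd i with ⟨j, rfl⟩ | ⟨j, rfl⟩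
          · rw [zpow_add, ← (Commute.refl x).mul_zpow, hx, one_zpow]; simp
          · rw [zpow_add_one, zpow_mul, zpow_two, hx, one_zpow, one_mul]; exact hxc g)
    rw [h1]
    rcases Int.even_or_odd i with ⟨j, rfl⟩ | ⟨j, rfl⟩
    · rw [zpow_add, ← (Commute.refl x).mul_zpow, hx, one_zpow]; simp
    · rw [zpow_add_one, zpow_mul, zpow_two, hx, one_zpow, one_mul]; exact hxc g
  have h := hs E hEn hEc hEe
  have hEW : W = E := eq_of_le_of_card_ge le_sup_left (hW4.symm ▸ h)
  rw [hEW]
  exact mem_sup_right (mem_zpowers x)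

/-- A normal elementary abelian subgroup lies in a central four-group. -/
theorem le_of_elementary (hs : Small X) {W E : Subgroup X} (hWc : W ≤ center X)
    (hW4 : Nat.card W = 4) (hWe : ∀ w ∈ W, w * w = 1) (hEn : E.Normal) (hEc : IsMulCommutative E)
    (hEe : ∀ e ∈ E, e * e = 1) : E ≤ W := by
  haveI := hEn
  haveI : W.Normal := ⟨fun w hw g => by
    rwa [mem_center_iff.mp (hWc hw) g, mul_inv_cancel_right]⟩
  have hc : ∀ w ∈ W, ∀ g : X, g * w = w * g := fun w hw g => mem_center_iff.mp (hWc hw) g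
  have hec : ∀ a ∈ E, ∀ b ∈ E, a * b = b * a := fun a ha b hb =>
    congrArg Subtype.val (hEc.is_comm.comm (⟨a, ha⟩ : E) ⟨b, hb⟩)
  have h := hs (W ⊔ E) inferInstance ⟨⟨fun x y => Subtype.ext ?_⟩⟩ fun x hx => ?_
  · have hEW : W = W ⊔ E := eq_of_le_of_card_ge le_sup_left (hW4.symm ▸ h)
    rw [hEW]; exact le_sup_right
  · obtain ⟨x, hx⟩ := x
    obtain ⟨y, hy⟩ := y
    obtain ⟨a, ha, b, hb, rfl⟩ := mem_sup_of_normal_left.mp hx
    obtain ⟨a', ha', b', hb', rfl⟩ := mem_sup_of_normal_left.mp hy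
    show a * b * (a' * b') = a' * b' * (a * b)
    calc a * b * (a' * b') = a * (b * a') * b' := by simp only [mul_assoc]
      _ = a * a' * (b * b') := by rw [hc a' ha' b]; simp only [mul_assoc]
      _ = a' * a * (b' * b) := by rw [hc a' ha' a, hec b hb b' hb']
      _ = a' * (a * b') * b := by simp only [mul_assoc]
      _ = a' * b' * (a * b) := by rw [← hc a ha b']; simp only [mul_assoc]
  · obtain ⟨a, ha, b, hb, rfl⟩ := mem_sup_of_normal_left.mp hx
    calc a * b * (a * b) = a * (b * a) * b := by simp only [mul_assoc]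
      _ = (a * a) * (b * b) := by rw [hc a ha b]; simp only [mul_assoc]
      _ = 1 := by rw [hWe a ha, hEe b hb, one_mul]

section Squares

variable {W : Subgroup X} (hWc : W ≤ center X) (hWe : ∀ w ∈ W, w * w = 1)
  (hsq : ∀ x : X, x * x ∈ W)

include hWc hsq in
theorem comm_mem (a b : X) : ⁅a, b⁆ ∈ W := by
  have h : ⁅a, b⁆ = (a * b) * (a * b) * (b⁻¹ * b⁻¹) * ((b * a⁻¹ * b⁻¹) * (b * a⁻¹ * b⁻¹)) := by
    rw [commutatorElement_def]; group
  rw [h]
  exact mul_mem (mul_mem (hsq _) (hsq _)) (hsq _)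

include hWc hsq in
theorem commutator_le_center : commutator X ≤ center X := by
  rw [_root_.commutator_def, commutator_le]
  exact fun a _ b _ => hWc (comm_mem hWc hsq a b)

include hWc hsq in
theorem mul_sq (a b : X) : (a * b) * (a * b) = a * a * (b * b) * ⁅b, a⁆ := by
  have hcl := commutator_le_center hWc hsq
  have h := PGroup.mul_pow_of_commute_commutator (PGroup.commute_comm hcl b a a)
    (PGroup.commute_comm hcl b a b) 2
  simpa [pow_two] using h

include hWc hWe hsq in
/-- If moreover all involutions lie in `W` of order `4`, the group has order at most `64`. -/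
theorem card_le_64 (hX : IsPGroup 2 X) (hW4 : Nat.card W = 4)
    (hinv : ∀ x : X, x * x = 1 → x ∈ W) : Nat.card X ≤ 64 := by
  classical
  haveI : Fact (Nat.Prime 2) := ⟨Nat.prime_two⟩
  by_contra hlt
  push Not at hlt
  have hcl := commutator_le_center hWc hsq
  have hsqW : ∀ w : W, w * w = 1 := fun w => Subtype.ext (hWe w w.2)
  have hWcomm : ∀ a b : W, a * b = b * a := comm_of_sq hsqW
  haveI : W.Normal := ⟨fun w hw g => by rwa [mem_center_iff.mp (hWc hw) g, mul_inv_cancel_right]⟩
  -- a four-subgroup modulo `W`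
  obtain ⟨v, -, hv⟩ : ∃ v ∈ (⊤ : Subgroup X), v ∉ W :=
    SetLike.exists_of_lt (lt_top_iff_ne_top.mpr fun h => by
      rw [h, card_top] at hW4; omega)
  let β : X →* W := MonoidHom.mk' (fun y => ⟨⁅y, v⁆, comm_mem hWc hsq y v⟩)
    fun a b => Subtype.ext (PGroup.comm_mul_left hcl a b v)
  obtain ⟨x, hx, hxv⟩ : ∃ x ∈ β.ker, x ∉ W ⊔ zpowers v := by
    by_contra hall
    push Not at hall
    have h1 := card_le_of_le (show β.ker ≤ W ⊔ zpowers v from hall)
    have h2 : Nat.card (W ⊔ zpowers v : Subgroup X) ≤ 8 := by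
      have hle : W ⊔ zpowers v ≤ (zpowers (v : X ⧸ W)).comap (QuotientGroup.mk' W) := by
        refine sup_le (fun w hw => ?_) (zpowers_le.mpr (mem_zpowers _))
        show (w : X ⧸ W) ∈ zpowers (v : X ⧸ W)
        rw [(QuotientGroup.eq_one_iff w).mpr hw]; exact one_mem _
      have h3 := card_mul_index ((zpowers (v : X ⧸ W)).comap (QuotientGroup.mk' W))
      have h4 := card_mul_index (zpowers (v : X ⧸ W))
      rw [index_comap_of_surjective _ (QuotientGroup.mk'_surjective W),
        card_eq_card_quotient_mul_card_subgroup W, ← h4, hW4, Nat.card_zpowers, mul_right_comm] at h3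
      have h5 := Nat.eq_of_mul_eq_mul_right (Nat.pos_of_ne_zero index_ne_zero_of_finite) h3
      have h6 : orderOf (v : X ⧸ W) ≤ 2 := Nat.le_of_dvd two_pos (orderOf_dvd_of_pow_eq_one (by
        rw [pow_two, ← QuotientGroup.mk_mul]; exact (QuotientGroup.eq_one_iff _).mpr (hsq v)))
      have := card_le_of_le hle
      omega
    have h3 := β.ker.card_mul_index
    rw [index_ker] at h3
    have h4 : Nat.card β.range ≤ 4 := hW4 ▸ Nat.card_le_card_of_injective _ β.range.subtype_injective
    have h5 : Nat.card X ≤ 8 * 4 := h3 ▸ Nat.mul_le_mul (h1.trans h2) h4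
    omega
  have hxc : x * v = v * x :=
    commutatorElement_eq_one_iff_mul_comm.mp (congrArg Subtype.val (MonoidHom.mem_ker.mp hx))
  have hne : v * v ≠ x * x := by
    intro he
    apply hxv
    have h1 : x * v ∈ W := hinv _ (by
      rw [mul_sq hWc hsq, ← he, commutatorElement_eq_one_iff_mul_comm.mpr hxc.symm, mul_one]
      exact hWe _ (hsq v))
    rw [show x = x * v * v⁻¹ by group]
    exact mul_mem_sup h1 (inv_mem (mem_zpowers v))
  have hv2 : v * v ≠ 1 := fun h => hv (hinv v h)
  have hx2 : x * x ≠ 1 := fun h => hxv (mem_sup_left (hinv x h))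
  set S := closure ((W : Set X) ∪ {v, x}) with hS
  have hSc : ∀ a ∈ S, ∀ b ∈ S, a * b = b * a := by
    have hgen : ∀ a ∈ ((W : Set X) ∪ {v, x}), ∀ b ∈ ((W : Set X) ∪ {v, x}), a * b = b * a := by
      rintro a (ha | rfl | rfl) b (hb | rfl | rfl) <;>
        first
          | rfl
          | exact hxc
          | exact hxc.symm
          | exact (mem_center_iff.mp (hWc ha) _).symm
          | exact mem_center_iff.mp (hWc hb) _
    intro a ha b hb
    have h1 := @mul_comm' _ _ (isMulCommutative_closure hgen) ⟨a, ha⟩ ⟨b, hb⟩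
    exact congrArg Subtype.val h1
  let sqh : S →* W := MonoidHom.mk' (fun d => ⟨(d : X) * d, hsq _⟩) fun a b => Subtype.ext (by
    show ((a : X) * b) * ((a : X) * b) = (a : X) * a * ((b : X) * b)
    rw [mul_sq hWc hsq, commutatorElement_eq_one_iff_mul_comm.mpr (hSc b b.2 a a.2), mul_one])
  have hsurj : Function.Surjective sqh := by
    obtain ⟨e, he1, he2, h0, hadd⟩ := exists_equiv W hW4 hsqW (u := ⟨v * v, hsq v⟩)
      (v := ⟨x * x, hsq x⟩) (fun h => hv2 (congrArg Subtype.val h))
      (fun h => hx2 (congrArg Subtype.val h)) (fun h => hne (congrArg Subtype.val h))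
    intro w
    obtain ⟨i, rfl⟩ := e.surjective w
    let sv : S := ⟨v, subset_closure (Or.inr (Set.mem_insert _ _))⟩
    let sx : S := ⟨x, subset_closure (Or.inr (Set.mem_insert_of_mem _ rfl))⟩
    have hall : ∀ i : V2, i = 0 ∨ i = (1, 0) ∨ i = (0, 1) ∨ i = (1, 0) + (0, 1) := by decide +revert
    rcases hall i with rfl | rfl | rfl | rfl
    · exact ⟨1, by rw [map_one, h0]⟩
    · exact ⟨sv, he1.symm⟩
    · exact ⟨sx, he2.symm⟩
    · exact ⟨sv * sx, by rw [map_mul, hadd, he1, he2]; rfl⟩
  have hkerS : ∀ d : S, sqh d = 1 → (d : X) ∈ W := fun d hd => hinv _ (congrArg Subtype.val hd)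
  have hScard : Nat.card S ≤ 16 := by
    rw [← sqh.ker.card_mul_index, index_ker, MonoidHom.range_eq_top.mpr hsurj, card_top, hW4]
    have : Nat.card sqh.ker ≤ Nat.card W := Nat.card_le_card_of_injective
      (fun d => (⟨_, hkerS d.1 d.2⟩ : W))
      fun a b h => Subtype.ext (Subtype.ext (congrArg Subtype.val h : _))
    omega
  -- the action on `S`
  let sec : W → S := Function.surjInv hsurj
  have hsec : ∀ w, sqh (sec w) = w := Function.surjInv_eq hsurj
  have hkey : ∀ (y : X) (d : S), ⁅(sec (sqh d) : X), y⁆ = ⁅(d : X), y⁆ := by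
    intro y d
    have h1 : ((sec (sqh d) * d⁻¹ : S) : X) ∈ W :=
      hkerS _ (by rw [map_mul, map_inv, hsec, mul_inv_cancel])
    have h2 : (sec (sqh d) : X) = ((sec (sqh d) * d⁻¹ : S) : X) * d := by simp
    rw [h2, PGroup.comm_mul_left hcl,
      commutatorElement_eq_one_iff_mul_comm.mpr (mem_center_iff.mp (hWc h1) y).symm, one_mul]
  let F : X → (W →* W) := fun y => MonoidHom.mk' (fun w => ⟨⁅(sec w : X), y⁆, comm_mem hWc hsq _ _⟩)
    fun a b => Subtype.ext (by
      show ⁅(sec (a * b) : X), y⁆ = ⁅(sec a : X), y⁆ * ⁅(sec b : X), y⁆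
      have h1 : sec (a * b) = sec (sqh (sec a * sec b)) := by rw [map_mul, hsec, hsec]
      rw [h1, hkey, Subgroup.coe_mul, PGroup.comm_mul_left hcl])
  have hFmul : ∀ y z w, F (y * z) w = F y w * F z w := fun y z w =>
    Subtype.ext (PGroup.comm_mul_right hcl _ _ _)
  have hfix : ∀ y ∉ S, HasFixed W (F y) := by
    intro y hy
    let g : W →* W := MonoidHom.mk' (fun w => w * F y w) fun a b => by
      rw [map_mul, mul_assoc a b, ← mul_assoc b, hWcomm b (F y a), mul_assoc (F y a), ← mul_assoc a]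
    by_contra hno
    have hinj : Function.Injective g := (injective_iff_map_eq_one g).mpr fun w hw => by
      by_contra hw1
      refine hno ⟨w, hw1, ?_⟩
      show F y w = w
      calc F y w = w * (w * F y w) := by rw [← mul_assoc, hsqW, one_mul]
        _ = w := by rw [show w * F y w = 1 from hw, mul_one]
    obtain ⟨w, hw⟩ := (Finite.injective_iff_surjective.mp hinj) ⟨y * y, hsq y⟩
    apply hy
    have h1 : y * sec w ∈ W := hinv _ (by
      rw [mul_sq hWc hsq]
      have h2 : (sec w : X) * sec w = (w : X) := congrArg Subtype.val (hsec w)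
      rw [h2, show (w : X) = ((w : W) : X) from rfl]
      have h3 : y * y = (w : X) * (F y w : X) := (congrArg Subtype.val hw).symm
      rw [h3]
      show (w : X) * (F y w : X) * (w : X) * ⁅(sec w : X), y⁆ = 1
      have h4 : ((w * F y w * w * F y w : W) : X) = 1 := by
        rw [show w * F y w * w * F y w = 1 by rw [mul_assoc (w * F y w), hsqW]]
        rfl
      exact h4)
    rw [show y = y * sec w * (sec w : X)⁻¹ by group]
    exact mul_mem (subset_closure (Or.inl h1)) (inv_mem (sec w).2)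
  -- three independent elements outside `S`
  have hgrow : ∀ T : Subgroup X, S ≤ T → ∀ y : X,
      Nat.card (T ⊔ zpowers y : Subgroup X) ≤ 2 * Nat.card T := by
    intro T hT y
    have hTn : T.Normal := PGroup.normal_of_comm_mem (A := W)
      ((show W ≤ S from fun w hw => subset_closure (Or.inl hw)).trans hT)
      fun g b _ => comm_mem hWc hsq g b
    have hle : T ⊔ zpowers y ≤ (zpowers (y : X ⧸ T)).comap (QuotientGroup.mk' T) := by
      refine sup_le (fun w hw => ?_) (zpowers_le.mpr (mem_zpowers _))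
      show (w : X ⧸ T) ∈ zpowers (y : X ⧸ T)
      rw [(QuotientGroup.eq_one_iff w).mpr hw]; exact one_mem _
    have h3 := card_mul_index ((zpowers (y : X ⧸ T)).comap (QuotientGroup.mk' T))
    have h4 := card_mul_index (zpowers (y : X ⧸ T))
    rw [index_comap_of_surjective _ (QuotientGroup.mk'_surjective T),
      card_eq_card_quotient_mul_card_subgroup T, ← h4, Nat.card_zpowers, mul_right_comm] at h3
    have h5 := Nat.eq_of_mul_eq_mul_right (Nat.pos_of_ne_zero index_ne_zero_of_finite) h3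
    have h6 : orderOf (y : X ⧸ T) ≤ 2 := Nat.le_of_dvd two_pos (orderOf_dvd_of_pow_eq_one (by
      rw [pow_two, ← QuotientGroup.mk_mul]
      exact (QuotientGroup.eq_one_iff _).mpr (hT (subset_closure (Or.inl (hsq y))))))
    exact (card_le_of_le hle).trans (by rw [h5]; exact Nat.mul_le_mul h6 le_rfl)
  have hex : ∀ T : Subgroup X, Nat.card T ≤ 64 → ∃ y, y ∉ T := fun T hT => by
    by_contra hall
    push Not at hall
    have : T = ⊤ := eq_top_iff.mpr fun y _ => hall y
    rw [this, card_top] at hT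
    omega
  obtain ⟨y1, hy1⟩ := hex S (by omega)
  have hc1 := hgrow S le_rfl y1
  obtain ⟨y2, hy2⟩ := hex (S ⊔ zpowers y1) (by omega)
  have hc2 := hgrow (S ⊔ zpowers y1) le_sup_left y2
  obtain ⟨y3, hy3⟩ := hex (S ⊔ zpowers y1 ⊔ zpowers y2) (by omega)
  have m1 : y1 ∈ S ⊔ zpowers y1 := mem_sup_right (mem_zpowers y1)
  have m2 : y2 ∈ S ⊔ zpowers y1 ⊔ zpowers y2 := mem_sup_right (mem_zpowers y2)
  have n12 : y1 * y2 ∉ S := fun h => hy2 (by
    rw [show y2 = y1⁻¹ * (y1 * y2) by group]
    exact mul_mem (inv_mem m1) (mem_sup_left h))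
  have n13 : y1 * y3 ∉ S := fun h => hy3 (by
    rw [show y3 = y1⁻¹ * (y1 * y3) by group]
    exact mul_mem (mem_sup_left (inv_mem m1)) (mem_sup_left (mem_sup_left h)))
  have n23 : y2 * y3 ∉ S := fun h => hy3 (by
    rw [show y3 = y2⁻¹ * (y2 * y3) by group]
    exact mul_mem (inv_mem m2) (mem_sup_left (mem_sup_left h)))
  have n123 : y1 * y2 * y3 ∉ S := fun h => hy3 (by
    rw [show y3 = (y1 * y2)⁻¹ * (y1 * y2 * y3) by group]
    exact mul_mem (inv_mem (mul_mem (mem_sup_left m1) m2)) (mem_sup_left (mem_sup_left h)))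
  have hc : ∀ y z, y * z ∉ S → HasFixed W fun w => F y w * F z w := fun y z h => by
    obtain ⟨w, hw, he⟩ := hfix _ h
    exact ⟨w, hw, (hFmul y z w).symm.trans he⟩
  refine no_three_fixes hW4 hsqW (F y1) (F y2) (F y3) (hfix _ hy1)
    (hfix _ fun h => hy2 (mem_sup_left h)) (hfix _ fun h => hy3 (mem_sup_left (mem_sup_left h)))
    (hc _ _ n12) (hc _ _ n13) (hc _ _ n23) ?_
  obtain ⟨w, hw, he⟩ := hfix _ n123
  refine ⟨w, hw, ?_⟩
  show F y1 w * F y2 w * F y3 w = w
  rw [← hFmul, ← hFmul]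
  exact he

end Squares

end Cfsg.Agent.ClassTech.SCNFour
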