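import Cfsg.Agent.ClassTech.SCNFour.Basic
import Cfsg.Agent.Lib.Perm.QuaternionClassTwo
import Cfsg.Agent.S0119

/-!
The case in which the operators centralize every characteristic abelian subgroup.
-/

set_option autoImplicit false

namespace Cfsg.Agent.ClassTech.SCNFour

open Subgroup
open scoped commutatorElement

variable {X : Type*} [Group X] [Finite X]

theorem eq_one_of_odd_pow {x : X} (hx : x * x = 1) {n : ℕ} (hn : Odd n) (h : x ^ n = 1) : x = 1 := by
  obtain ⟨k, rfl⟩ := hn
  rwa [pow_succ, pow_mul, pow_two, hx, one_pow, one_mul] at h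

theorem card_grow {T : Subgroup X} [T.Normal] {y : X} (hy : y * y ∈ T) :
    Nat.card (T ⊔ zpowers y : Subgroup X) ≤ 2 * Nat.card T := by
  have hle : T ⊔ zpowers y ≤ (zpowers (y : X ⧸ T)).comap (QuotientGroup.mk' T) := by
    refine sup_le (fun w hw => ?_) (zpowers_le.mpr (mem_zpowers _))
    show (w : X ⧸ T) ∈ zpowers (y : X ⧸ T)
    rw [(QuotientGroup.eq_one_iff w).mpr hw]; exact one_mem _
  have h3 := card_mul_index ((zpowers (y : X ⧸ T)).comap (QuotientGroup.mk' T))
  have h4 := card_mul_index (zpowers (y : X ⧸ T))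
  rw [index_comap_of_surjective _ (QuotientGroup.mk'_surjective T),
    card_eq_card_quotient_mul_card_subgroup T, ← h4, Nat.card_zpowers, mul_right_comm] at h3
  have h5 := Nat.eq_of_mul_eq_mul_right (Nat.pos_of_ne_zero index_ne_zero_of_finite) h3
  have h6 : orderOf (y : X ⧸ T) ≤ 2 := Nat.le_of_dvd two_pos (orderOf_dvd_of_pow_eq_one (by
    rw [pow_two, ← QuotientGroup.mk_mul]; exact (QuotientGroup.eq_one_iff _).mpr hy))
  exact (card_le_of_le hle).trans (by rw [h5]; exact Nat.mul_le_mul h6 le_rfl)

/-- The conclusion when every characteristic abelian subgroup is centralized. -/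
theorem conclusion_of_fixed (hX : IsPGroup 2 X) (hna : ¬ IsMulCommutative X) (hs : Small X)
    (A : Subgroup (MulAut X)) (hA : Odd (Nat.card A))
    (hXA : Subgroup.closure {g : X | ∃ φ ∈ A, ∃ x : X, g = x⁻¹ * φ x} = ⊤)
    (hchar : ∀ H : Subgroup X, H.Characteristic → IsMulCommutative H → ∀ a ∈ A, ∀ h ∈ H, a h = h) :
    Nonempty (X ≃* QuaternionGroup 2) ∨
      (Cfsg.IsSpecial 2 X ∧ Nat.card X = 64 ∧ Nat.card {x : X // orderOf x = 2} = 3 ∧
        ∀ x : X, orderOf x = 2 → x ∈ Subgroup.center X) ∨
      (Cfsg.IsExtraspecial 2 X ∧ Nat.card X = 32 ∧ Nat.card {x : X // orderOf x = 2} = 11) := by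
  classical
  haveI : Fact (Nat.Prime 2) := ⟨Nat.prime_two⟩
  obtain ⟨hsp, hfixc⟩ := S0119.result hX A (Nat.coprime_two_right.mpr hA) (by
    rw [← hXA]; congr 1; ext g
    exact ⟨fun ⟨x, a, ha, h⟩ => ⟨a, ha, x, h⟩, fun ⟨a, ha, x, h⟩ => ⟨x, a, ha, h⟩⟩) hchar
  set Z := center X with hZ
  have hsq : ∀ x : X, x * x ∈ Z := fun x => by
    have := PGroup.pow_mem_frattini hX x
    rwa [hsp.2.1, pow_two] at this
  have hcl : commutator X ≤ center X := hsp.2.2.le
  have hcm : ∀ a b : X, ⁅a, b⁆ ∈ Z := fun a b => hcl (PGroup.commutatorElement_mem_commutator a b)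
  have hZe : ∀ z ∈ Z, z * z = 1 := by
    intro z hz
    have hz' : z ∈ commutator X := hsp.2.2.symm ▸ hz
    clear hz
    rw [commutator_eq_closure] at hz'
    have hc : ∀ w ∈ closure (commutatorSet X), w ∈ Z := fun w hw => by
      rw [← commutator_eq_closure] at hw; exact hcl hw
    induction hz' using closure_induction with
    | mem w hw =>
      obtain ⟨a, b, rfl⟩ := hw
      rw [← pow_two, ← PGroup.comm_pow_left hcl, pow_two, commutatorElement_eq_one_iff_mul_comm]
      exact (mem_center_iff.mp (hsq a) b).symm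
    | one => simp
    | mul a b ha hb iha ihb =>
      rw [show a * b * (a * b) = a * (b * a) * b by simp only [mul_assoc],
        mem_center_iff.mp (hc a ha) b, show a * (a * b) * b = (a * a) * (b * b) by simp only [mul_assoc],
        iha, ihb, one_mul]
    | inv a ha iha => rw [← mul_inv_rev, iha, inv_one]
  have hne : Z ≠ ⊥ := by
    intro h
    refine hna ⟨⟨fun a b => ?_⟩⟩
    rw [← commutatorElement_eq_one_iff_mul_comm, ← Subgroup.mem_bot, ← h]
    exact hcm a b
  have hZ4 : Nat.card Z ≤ 4 := hs Z inferInstance inferInstance hZe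
  have hZn1 : Nat.card Z ≠ 1 := fun h => hne (card_eq_one.mp h)
  have hZcard : Nat.card Z = 2 ∨ Nat.card Z = 4 := by
    obtain ⟨n, hn⟩ := PGroup.exists_card_eq_pow hX Z
    rcases n with _ | _ | _ | n
    · exact absurd hn hZn1
    · exact Or.inl hn
    · exact Or.inr hn
    · exfalso
      have h8 : 8 ≤ 2 ^ (n + 1 + 1 + 1) :=
        le_trans (by norm_num) (Nat.pow_le_pow_right (by norm_num : 0 < 2) (by omega : 3 ≤ n + 1 + 1 + 1))
      omega
  have hfree : ∀ x : X, x ∉ Z → ∃ a ∈ A, a x ≠ x := fun x hx => by
    by_contra h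
    push Not at h
    exact hx ((hfixc x).mpr h)
  have hord : ∀ a ∈ A, Odd (orderOf a) := fun a ha => hA.of_dvd_nat (A.orderOf_dvd_natCard ha)
  -- a coset fixed by an odd automorphism contains only fixed points
  have hcoset : ∀ a ∈ A, ∀ x : X, x⁻¹ * a x ∈ Z → a x = x := by
    intro a ha x hx
    set z := x⁻¹ * a x with hz
    have haz : a z = z := (hfixc z).mp hx a ha
    have hax : a x = x * z := by rw [hz]; group
    have hit : ∀ n : ℕ, (a ^ n) x = x * z ^ n := by
      intro n
      induction n with
      | zero => simp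
      | succ n ih =>
        rw [pow_succ' a, MulAut.mul_apply, ih, map_mul, map_pow, haz, hax, mul_assoc, ← pow_succ']
    have h1 : z ^ orderOf a = 1 := by
      have := hit (orderOf a)
      rw [pow_orderOf_eq_one, MulAut.one_apply] at this
      exact mul_left_cancel (a := x) (by rw [← this, mul_one])
    rw [hax, eq_one_of_odd_pow (hZe z hx) (hord a ha) h1, mul_one]
  set q := Nat.card (X ⧸ Z) with hq
  have hXq : Nat.card X = q * Nat.card Z := card_eq_card_quotient_mul_card_subgroup Z
  have hgrow : ∀ (T : Subgroup X), Z ≤ T → ∀ y, Nat.card (T ⊔ zpowers y : Subgroup X) ≤ 2 * Nat.card T := by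
    intro T hT y
    haveI : T.Normal := PGroup.normal_of_comm_mem hT fun g b _ => hcm g b
    exact card_grow (hT (hsq y))
  -- the centralizer of a pair modulo `Z`
  have hgen2 : ∀ u v : X, u ∉ Z → v ∉ Z ⊔ zpowers u →
      Nat.card Z * 4 ≤ Nat.card (Z ⊔ zpowers u ⊔ zpowers v : Subgroup X) := by
    intro u v hu hv
    have h1 : Z < Z ⊔ zpowers u := lt_of_le_of_ne le_sup_left fun h => hu (h ▸ mem_sup_right (mem_zpowers u))
    have h2 : Z ⊔ zpowers u < Z ⊔ zpowers u ⊔ zpowers v :=
      lt_of_le_of_ne le_sup_left fun h => hv (h.symm ▸ mem_sup_right (mem_zpowers v))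
    obtain ⟨a, ha⟩ := PGroup.exists_card_eq_pow hX Z
    obtain ⟨b, hb⟩ := PGroup.exists_card_eq_pow hX (Z ⊔ zpowers u)
    obtain ⟨c, hc⟩ := PGroup.exists_card_eq_pow hX (Z ⊔ zpowers u ⊔ zpowers v)
    have l1 : Nat.card Z < Nat.card (Z ⊔ zpowers u : Subgroup X) := lt_of_le_of_ne (card_le_of_le h1.le)
      fun h => h1.ne (eq_of_le_of_card_ge h1.le h.ge)
    have l2 : Nat.card (Z ⊔ zpowers u : Subgroup X) < Nat.card (Z ⊔ zpowers u ⊔ zpowers v : Subgroup X) :=
      lt_of_le_of_ne (card_le_of_le h2.le) fun h => h2.ne (eq_of_le_of_card_ge h2.le h.ge)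
    rw [ha, hb, Nat.pow_lt_pow_iff_right (by norm_num)] at l1
    rw [hb, hc, Nat.pow_lt_pow_iff_right (by norm_num)] at l2
    rw [ha, hc, show 2 ^ a * 4 = 2 ^ (a + 2) by rw [pow_add]; norm_num]
    exact Nat.pow_le_pow_right (by norm_num) (by omega)
  -- the index of the centre is not eight
  have hno8 : q ≠ 8 := by
    intro hq8
    -- a maximal subgroup of the centre
    obtain ⟨M, hMZ, hMn, hM2⟩ : ∃ M : Subgroup X, M ≤ Z ∧ M.Normal ∧ 2 * Nat.card M = Nat.card Z := by
      rcases hZcard with h | h
      · exact ⟨⊥, bot_le, inferInstance, by rw [card_bot, h]⟩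
      · obtain ⟨M, h1, h2, h3⟩ := PGroup.exists_normal_le_card hX Z 1 (n := 2) (by rw [h]; norm_num)
          (by norm_num)
        exact ⟨M, h1, h2, by rw [h3, h]; norm_num⟩
    haveI := hMn
    let R : Subgroup X :=
      { carrier := {x | ∀ y, ⁅x, y⁆ ∈ M}
        one_mem' := fun y => by simp
        mul_mem' := fun {a b} ha hb y => by rw [PGroup.comm_mul_left hcl]; exact mul_mem (ha y) (hb y)
        inv_mem' := fun {a} ha y => by rw [PGroup.comm_inv_left hcl]; exact inv_mem (ha y) }
    have hZR : Z ≤ R := fun z hz y => by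
      rw [commutatorElement_eq_one_iff_mul_comm.mpr (mem_center_iff.mp hz y).symm]; exact one_mem _
    have hRA : ∀ a ∈ A, ∀ x ∈ R, a x ∈ R := by
      intro a ha x hx y
      have h1 : ⁅a x, y⁆ = a ⁅x, a.symm y⁆ := by rw [map_commutatorElement, MulEquiv.apply_symm_apply]
      have h2 := hx (a.symm y)
      rw [h1, (hfixc _).mp (hMZ h2) a ha]
      exact h2
    have hRtop : R ≠ ⊤ := by
      intro h
      have h1 : commutator X ≤ M := by
        rw [_root_.commutator_def, commutator_le]
        exact fun a _ b _ => (h.ge (mem_top a)) b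
      rw [hsp.2.2, ← hZ] at h1
      have := card_le_of_le h1
      have := Nat.card_pos (α := M)
      omega
    obtain ⟨u, -, hu⟩ := SetLike.exists_of_lt (lt_top_iff_ne_top.mpr hRtop)
    obtain ⟨v, huv⟩ : ∃ v, ⁅u, v⁆ ∉ M := by
      by_contra h; push Not at h; exact hu h
    -- the orthogonal of `u` and `v`
    have hdich : ∀ a b : X, ⁅a, b⁆ ∈ M ∨ ⁅a, b⁆ * ⁅u, v⁆ ∈ M := by
      intro a b
      by_cases h : ⁅a, b⁆ ∈ M
      · exact Or.inl h
      · right
        have hidx : (M.subgroupOf Z).index = 2 := by
          have h1 := (M.subgroupOf Z).card_mul_index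
          rw [Nat.card_congr (subgroupOfEquivOfLe hMZ).toEquiv, ← hM2, mul_comm 2] at h1
          exact Nat.eq_of_mul_eq_mul_left Nat.card_pos h1
        exact (Subgroup.mul_mem_iff_of_index_two hidx (a := ⟨_, hcm a b⟩) (b := ⟨_, hcm u v⟩)).mpr
          ⟨fun h' => absurd h' h, fun h' => absurd h' huv⟩
    let T : Subgroup X :=
      { carrier := {x | ⁅x, u⁆ ∈ M ∧ ⁅x, v⁆ ∈ M}
        one_mem' := by simp
        mul_mem' := fun {a b} ha hb => by
          simp only [Set.mem_ofPred_eq, PGroup.comm_mul_left hcl]
          exact ⟨mul_mem ha.1 hb.1, mul_mem ha.2 hb.2⟩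
        inv_mem' := fun {a} ha => by
          simp only [Set.mem_ofPred_eq, PGroup.comm_inv_left hcl]
          exact ⟨inv_mem ha.1, inv_mem ha.2⟩ }
    have hdec : ∀ x : X, ∃ i j : ℕ, x * u ^ i * v ^ j ∈ T := by
      intro x
      have h1 : ∀ a b c, ⁅a * b, c⁆ = ⁅a, c⁆ * ⁅b, c⁆ := PGroup.comm_mul_left hcl
      obtain ⟨i, hi⟩ : ∃ i : ℕ, ⁅x, v⁆ * ⁅u, v⁆ ^ i ∈ M := (hdich x v).elim
        (fun h => ⟨0, by simpa using h⟩) (fun h => ⟨1, by simpa using h⟩)
      obtain ⟨j, hj⟩ : ∃ j : ℕ, ⁅x, u⁆ * ⁅u, v⁆ ^ j ∈ M := (hdich x u).elim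
        (fun h => ⟨0, by simpa using h⟩) (fun h => ⟨1, by simpa using h⟩)
      refine ⟨i, j, ?_, ?_⟩
      · have hvu : ⁅v, u⁆ = ⁅u, v⁆ := by
          rw [← commutatorElement_inv u v]
          exact inv_eq_of_mul_eq_one_left (hZe _ (hcm u v))
        rw [h1, h1, PGroup.comm_pow_left hcl, PGroup.comm_pow_left hcl, commutatorElement_self, one_pow,
          mul_one, hvu]
        exact hj
      · rw [h1, h1, PGroup.comm_pow_left hcl, PGroup.comm_pow_left hcl, commutatorElement_self, one_pow,
          mul_one]
        exact hi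
    have hnRZ : ∀ S : Subgroup X, Z ≤ S → (∀ a ∈ A, ∀ x ∈ S, a x ∈ S) → Nat.card S ≤ 2 * Nat.card Z →
        S ≤ Z := by
      intro S hZS hSA hS2 x hx
      by_contra hxZ
      obtain ⟨a, ha, hax⟩ := hfree x hxZ
      apply hax
      refine hcoset a ha x ?_
      have hidx : (Z.subgroupOf S).index = 2 := by
        have h1 := (Z.subgroupOf S).card_mul_index
        rw [Nat.card_congr (subgroupOfEquivOfLe hZS).toEquiv] at h1
        have h2 : (Z.subgroupOf S).index ≠ 1 := fun h =>
          hxZ (show x ∈ Z from ((index_eq_one.mp h).ge (mem_top (⟨x, hx⟩ : S)) : _))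
        have h3 : (Z.subgroupOf S).index ≠ 0 := index_ne_zero_of_finite
        have := Nat.card_pos (α := Z)
        have h4 : Nat.card Z * (Z.subgroupOf S).index ≤ Nat.card Z * 2 := by rw [h1, mul_comm]; exact hS2
        have := Nat.le_of_mul_le_mul_left h4 this
        omega
      exact (Subgroup.mul_mem_iff_of_index_two hidx (a := ⟨x⁻¹, inv_mem hx⟩) (b := ⟨a x, hSA a ha x hx⟩)).mpr
        ⟨fun h => absurd (inv_mem_iff.mp h) hxZ, fun h => absurd (by
          have h5 := (hfixc (a x)).mp h a.symm (inv_mem ha)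
          rw [MulEquiv.symm_apply_apply] at h5
          rw [h5]; exact h) hxZ⟩
    -- the radical is larger than the centre
    by_cases hRZ : R ≤ Z
    · obtain ⟨w, hwT, hwZ⟩ : ∃ w ∈ T, w ∉ Z := by
        by_contra h
        push Not at h
        have hcov : ∀ x : X, x ∈ Z ⊔ zpowers u ⊔ zpowers v := fun x => by
          obtain ⟨i, j, hx⟩ := hdec x
          rw [show x = x * u ^ i * v ^ j * (v ^ j)⁻¹ * (u ^ i)⁻¹ by group]
          exact mul_mem (mul_mem (mem_sup_left (mem_sup_left (h _ hx)))
            (inv_mem (pow_mem (mem_sup_right (mem_zpowers v)) j)))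
            (inv_mem (pow_mem (mem_sup_left (mem_sup_right (mem_zpowers u))) i))
        have h1 := card_le_of_le (show (⊤ : Subgroup X) ≤ _ from fun x _ => hcov x)
        rw [card_top, hXq, hq8] at h1
        have h2 := hgrow (Z ⊔ zpowers u) le_sup_left v
        have h3 := hgrow Z le_rfl u
        have := Nat.card_pos (α := Z)
        omega
      -- `T` is covered by `Z` and `w`
      have hTw : ∀ x ∈ T, x ∈ Z ⊔ zpowers w := by
        intro x hx
        by_contra hxw
        have hu1 : u ∉ Z ⊔ zpowers w ⊔ zpowers x := fun h => huv (by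
          have hle : Z ⊔ zpowers w ⊔ zpowers x ≤ T := sup_le (sup_le (fun z hz => ⟨hZR hz u, hZR hz v⟩)
            (zpowers_le.mpr hwT)) (zpowers_le.mpr hx)
          exact (hle h).2)
        have hv1 : v ∉ Z ⊔ zpowers w ⊔ zpowers x ⊔ zpowers u := fun h => huv (by
          have hle : Z ⊔ zpowers w ⊔ zpowers x ⊔ zpowers u ≤
              ({ carrier := {y | ⁅u, y⁆ ∈ M}, one_mem' := by simp,
                 mul_mem' := fun {a b} ha hb => by
                   simp only [Set.mem_ofPred_eq, PGroup.comm_mul_right hcl]; exact mul_mem ha hb,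
                 inv_mem' := fun {a} ha => by
                   simp only [Set.mem_ofPred_eq, PGroup.comm_inv_right hcl]; exact inv_mem ha } :
                Subgroup X) := by
            refine sup_le (sup_le (sup_le (fun z hz => ?_) (zpowers_le.mpr ?_)) (zpowers_le.mpr ?_))
              (zpowers_le.mpr (by simp))
            · show ⁅u, z⁆ ∈ M
              rw [commutatorElement_eq_one_iff_mul_comm.mpr (mem_center_iff.mp hz u)]; exact one_mem _
            · show ⁅u, w⁆ ∈ M
              rw [← commutatorElement_inv]; exact inv_mem hwT.1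
            · show ⁅u, x⁆ ∈ M
              rw [← commutatorElement_inv]; exact inv_mem hx.1
          exact hle h)
        have s0 : Z < Z ⊔ zpowers w := lt_of_le_of_ne le_sup_left fun h => hwZ (h ▸ mem_sup_right (mem_zpowers w))
        have s1 : Z ⊔ zpowers w < Z ⊔ zpowers w ⊔ zpowers x :=
          lt_of_le_of_ne le_sup_left fun h => hxw (h.symm ▸ mem_sup_right (mem_zpowers x))
        have s2 : Z ⊔ zpowers w ⊔ zpowers x < Z ⊔ zpowers w ⊔ zpowers x ⊔ zpowers u :=
          lt_of_le_of_ne le_sup_left fun h => hu1 (h.symm ▸ mem_sup_right (mem_zpowers u))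
        have s3 : Z ⊔ zpowers w ⊔ zpowers x ⊔ zpowers u <
            Z ⊔ zpowers w ⊔ zpowers x ⊔ zpowers u ⊔ zpowers v :=
          lt_of_le_of_ne le_sup_left fun h => hv1 (h.symm ▸ mem_sup_right (mem_zpowers v))
        have hstep : ∀ {S S' : Subgroup X}, S < S' → 2 * Nat.card S ≤ Nat.card S' := fun {S S'} h => by
          obtain ⟨a, ha⟩ := PGroup.exists_card_eq_pow hX S
          obtain ⟨b, hb⟩ := PGroup.exists_card_eq_pow hX S'
          have l : Nat.card S < Nat.card S' := lt_of_le_of_ne (card_le_of_le h.le)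
            fun e => h.ne (eq_of_le_of_card_ge h.le e.ge)
          rw [ha, hb, Nat.pow_lt_pow_iff_right (by norm_num)] at l
          rw [ha, hb, ← pow_succ']
          exact Nat.pow_le_pow_right (by norm_num) (by omega)
        have t0 := hstep s0
        have t1 := hstep s1
        have t2 := hstep s2
        have t3 := hstep s3
        have t4 : Nat.card (Z ⊔ zpowers w ⊔ zpowers x ⊔ zpowers u ⊔ zpowers v : Subgroup X) ≤ Nat.card X :=
          Nat.card_le_card_of_injective _ (Subgroup.subtype_injective _)
        rw [hXq, hq8] at t4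
        have := Nat.card_pos (α := Z)
        omega
      refine hwZ (hRZ fun y => ?_)
      obtain ⟨i, j, hy⟩ := hdec y
      have e : y = y * u ^ i * v ^ j * (v ^ j)⁻¹ * (u ^ i)⁻¹ := by group
      rw [e, PGroup.comm_mul_right hcl, PGroup.comm_mul_right hcl, PGroup.comm_inv_right hcl,
        PGroup.comm_inv_right hcl, PGroup.comm_pow_right hcl, PGroup.comm_pow_right hcl]
      refine mul_mem (mul_mem ?_ (inv_mem (pow_mem hwT.2 j))) (inv_mem (pow_mem hwT.1 i))
      obtain ⟨z, hz, z', hz', hzz⟩ := mem_sup_of_normal_left.mp (hTw _ hy)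
      obtain ⟨k, rfl⟩ := mem_zpowers_iff.mp hz'
      rw [← hzz, PGroup.comm_mul_right hcl,
        commutatorElement_eq_one_iff_mul_comm.mpr (mem_center_iff.mp hz w), one_mul,
        commutatorElement_eq_one_iff_mul_comm.mpr (Commute.zpow_right rfl k).eq]
      exact one_mem _
    · -- the radical has index four
      apply hRZ
      refine hnRZ R hZR hRA ?_
      have hv' : v ∉ R ⊔ zpowers u := fun h => by
        apply huv
        haveI : R.Normal := PGroup.normal_of_comm_mem hZR fun g b _ => hcm g b
        obtain ⟨r, hr, r', hr', he⟩ := mem_sup_of_normal_left.mp h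
        obtain ⟨k, rfl⟩ := mem_zpowers_iff.mp hr'
        rw [← he, PGroup.comm_mul_right hcl,
          commutatorElement_eq_one_iff_mul_comm.mpr (Commute.zpow_right rfl k).eq, mul_one,
          ← commutatorElement_inv]
        exact inv_mem (hr u)
      have s1 : R < R ⊔ zpowers u := lt_of_le_of_ne le_sup_left fun h => hu (h.symm ▸ mem_sup_right (mem_zpowers u))
      have s2 : R ⊔ zpowers u < R ⊔ zpowers u ⊔ zpowers v :=
        lt_of_le_of_ne le_sup_left fun h => hv' (h.symm ▸ mem_sup_right (mem_zpowers v))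
      have hstep : ∀ {S S' : Subgroup X}, S < S' → 2 * Nat.card S ≤ Nat.card S' := fun {S S'} h => by
        obtain ⟨a, ha⟩ := PGroup.exists_card_eq_pow hX S
        obtain ⟨b, hb⟩ := PGroup.exists_card_eq_pow hX S'
        have l : Nat.card S < Nat.card S' := lt_of_le_of_ne (card_le_of_le h.le)
          fun e => h.ne (eq_of_le_of_card_ge h.le e.ge)
        rw [ha, hb, Nat.pow_lt_pow_iff_right (by norm_num)] at l
        rw [ha, hb, ← pow_succ']
        exact Nat.pow_le_pow_right (by norm_num) (by omega)
      have t1 := hstep s1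
      have t2 := hstep s2
      have t4 : Nat.card (R ⊔ zpowers u ⊔ zpowers v : Subgroup X) ≤ Nat.card X :=
        Nat.card_le_card_of_injective _ (Subgroup.subtype_injective _)
      rw [hXq, hq8] at t4
      omega
  -- a noncentral element exists and generates a quotient of order four or more
  obtain ⟨u, -, hu⟩ : ∃ u ∈ (⊤ : Subgroup X), u ∉ Z := SetLike.exists_of_lt (lt_top_iff_ne_top.mpr
    fun h => hna ⟨⟨fun a b => (mem_center_iff.mp (h.ge (mem_top b)) a)⟩⟩)
  have hq4 : 4 ≤ q := by
    obtain ⟨v, hv⟩ : ∃ v, v ∉ Z ⊔ zpowers u := by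
      by_contra h
      push Not at h
      refine hna ⟨⟨fun a b => ?_⟩⟩
      obtain ⟨z, hz, r, hr, rfl⟩ := mem_sup_of_normal_left.mp (h a)
      obtain ⟨z', hz', r', hr', rfl⟩ := mem_sup_of_normal_left.mp (h b)
      obtain ⟨i, rfl⟩ := mem_zpowers_iff.mp hr
      obtain ⟨j, rfl⟩ := mem_zpowers_iff.mp hr'
      calc z * u ^ i * (z' * u ^ j) = z * (u ^ i * z') * u ^ j := by simp only [mul_assoc]
        _ = z * z' * (u ^ i * u ^ j) := by rw [mem_center_iff.mp hz' (u ^ i)]; simp only [mul_assoc]
        _ = z' * z * (u ^ j * u ^ i) := by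
          rw [mem_center_iff.mp hz' z, ← zpow_add, ← zpow_add, add_comm]
        _ = z' * (z * u ^ j) * u ^ i := by simp only [mul_assoc]
        _ = z' * u ^ j * (z * u ^ i) := by rw [← mem_center_iff.mp hz (u ^ j)]; simp only [mul_assoc]
    have h := (hgen2 u v hu hv).trans (Nat.card_le_card_of_injective _
      (Subgroup.subtype_injective (Z ⊔ zpowers u ⊔ zpowers v)))
    rw [hXq, mul_comm q] at h
    exact Nat.le_of_mul_le_mul_left h Nat.card_pos
  obtain ⟨k, hk⟩ := IsPGroup.iff_card.mp (hX.to_quotient Z)
  rw [← hq] at hk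
  rcases hZcard with hZ2 | hZ4'
  · -- extraspecial
    have hext : Cfsg.IsExtraspecial 2 X := ⟨hsp, hZ2⟩
    obtain ⟨z, hz, hz1⟩ : ∃ z ∈ Z, z ≠ 1 := by
      obtain ⟨⟨z, hz⟩, hz1⟩ := ne_bot_iff_exists_ne_one.mp hne
      exact ⟨z, hz, fun h => hz1 (Subtype.ext h)⟩
    have hZ01 : ∀ x ∈ Z, x = 1 ∨ x = z := by
      intro x hx
      by_contra h
      push Not at h
      haveI := Fintype.ofFinite X
      have : ({1, z, x} : Finset X).card ≤ Nat.card Z := by
        rw [Nat.card_eq_fintype_card, ← Finset.card_univ,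
          ← Finset.card_map (⟨Subtype.val, Subtype.val_injective⟩ : Z ↪ X)]
        refine Finset.card_le_card fun y hy => ?_
        simp only [Finset.mem_insert, Finset.mem_singleton] at hy
        rcases hy with rfl | rfl | rfl
        · exact Finset.mem_map.mpr ⟨1, Finset.mem_univ _, rfl⟩
        · exact Finset.mem_map.mpr ⟨⟨y, hz⟩, Finset.mem_univ _, rfl⟩
        · exact Finset.mem_map.mpr ⟨⟨y, hx⟩, Finset.mem_univ _, rfl⟩
      rw [Finset.card_insert_of_notMem (by simp [Ne.symm hz1, Ne.symm h.1]),
        Finset.card_insert_of_notMem (by simp [Ne.symm h.2]), Finset.card_singleton, hZ2] at this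
      omega
    have hmulsq : ∀ a b : X, a * b * (a * b) = a * a * (b * b) * ⁅b, a⁆ := fun a b => by
      have h := PGroup.mul_pow_of_commute_commutator (PGroup.commute_comm hcl b a a)
        (PGroup.commute_comm hcl b a b) 2
      simpa [pow_two] using h
    -- no large elementary group containing the centre
    have hE8 : ∀ v w : X, v * v = 1 → w * w = 1 → v * w = w * v → v ∉ Z → w ∈ Z ⊔ zpowers v := by
      intro v w hv hw hvw hvZ
      by_contra hwv
      set E := Z ⊔ zpowers v ⊔ zpowers w with hE
      have hEn : E.Normal := PGroup.normal_of_comm_mem (le_sup_left.trans le_sup_left) fun g b _ => hcm g b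
      have hgen : ∀ a ∈ ((Z : Set X) ∪ {v, w}), ∀ b ∈ ((Z : Set X) ∪ {v, w}), a * b = b * a := by
        rintro a (ha | rfl | rfl) b (hb | rfl | rfl) <;>
          first
            | rfl
            | exact hvw
            | exact hvw.symm
            | exact (mem_center_iff.mp ha _).symm
            | exact mem_center_iff.mp hb _
      have hEle : E ≤ closure ((Z : Set X) ∪ {v, w}) :=
        sup_le (sup_le (fun x hx => subset_closure (Or.inl hx))
          (zpowers_le.mpr (subset_closure (Or.inr (Set.mem_insert _ _)))))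
          (zpowers_le.mpr (subset_closure (Or.inr (Set.mem_insert_of_mem _ rfl))))
      have hEc : ∀ a ∈ E, ∀ b ∈ E, a * b = b * a := fun a ha b hb => congrArg Subtype.val
        (@mul_comm' _ _ (isMulCommutative_closure hgen) ⟨a, hEle ha⟩ ⟨b, hEle hb⟩)
      have hEe : ∀ e ∈ E, e * e = 1 := by
        have : E ≤ closure ((Z : Set X) ∪ {v, w}) := hEle
        intro e he
        have he' := this he
        induction he' using closure_induction with
        | mem e he'' => rcases he'' with h | rfl | rfl; exacts [hZe _ h, hv, hw]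
        | one => simp
        | mul a b ha hb iha ihb =>
          have hab : a * b = b * a :=
            congrArg Subtype.val (@mul_comm' _ _ (isMulCommutative_closure hgen) ⟨a, ha⟩ ⟨b, hb⟩)
          have hle' : closure ((Z : Set X) ∪ {v, w}) ≤ E := (closure_le E).mpr (by
            rintro y (hy | rfl | rfl)
            · exact mem_sup_left (mem_sup_left hy)
            · exact mem_sup_left (mem_sup_right (mem_zpowers _))
            · exact mem_sup_right (mem_zpowers _))
          rw [show a * b * (a * b) = a * (b * a) * b by simp only [mul_assoc], ← hab,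
            show a * (a * b) * b = (a * a) * (b * b) by simp only [mul_assoc], iha (hle' ha),
            ihb (hle' hb), one_mul]
        | inv a ha iha =>
          have := inv_mem he
          rw [inv_inv] at this
          rw [← mul_inv_rev, iha this, inv_one]
      have hle := hs E hEn ⟨⟨fun a b => Subtype.ext (hEc a a.2 b b.2)⟩⟩ hEe
      have h := hgen2 v w hvZ hwv
      rw [← hE, hZ2] at h
      omega
    rcases Nat.lt_or_ge k 3 with hk3 | hk3
    · -- quaternion
      left
      interval_cases k
      · omega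
      · omega
      have hcard : Nat.card X = 8 := by rw [hXq, hk, hZ2]; norm_num
      obtain ⟨a, ha, hau⟩ := hfree u hu
      set v := a u with hv
      have huv : v ∉ Z ⊔ zpowers u := by
        intro h
        apply hau
        refine hcoset a ha u ?_
        obtain ⟨c, hc, r, hr, he⟩ := mem_sup_of_normal_left.mp h
        obtain ⟨i, rfl⟩ := mem_zpowers_iff.mp hr
        rcases Int.even_or_odd i with ⟨j, rfl⟩ | ⟨j, rfl⟩
        · exfalso
          have h1 : v ∈ Z := by
            rw [← he, zpow_add, ← (Commute.refl u).mul_zpow]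
            exact mul_mem hc (zpow_mem (hsq u) j)
          have h2 := (hfixc v).mp h1 a.symm (inv_mem ha)
          rw [hv, MulEquiv.symm_apply_apply] at h2
          exact hu (h2 ▸ h1)
        · rw [← hv, ← he, zpow_add_one, zpow_mul, zpow_two]
          rw [show u⁻¹ * (c * ((u * u) ^ j * u)) = (u⁻¹ * c) * (u * u) ^ j * u by simp only [mul_assoc]]
          have hcj : c * (u * u) ^ j ∈ Z := mul_mem hc (zpow_mem (hsq u) j)
          have e : u⁻¹ * c * (u * u) ^ j * u = c * (u * u) ^ j := by
            rw [mul_assoc u⁻¹, mul_assoc u⁻¹, (mem_center_iff.mp hcj u).symm, inv_mul_cancel_left]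
          rw [e]; exact hcj
      have htop2 : Z ⊔ zpowers u ⊔ zpowers v = ⊤ :=
        eq_top_of_le_card _ (by have := hgen2 u v hu huv; omega)
      have hcu : ⁅u, v⁆ = z := by
        refine (hZ01 _ (hcm u v)).resolve_left fun h => hna ?_
        have hgen : ∀ a ∈ ((Z : Set X) ∪ {u, v}), ∀ b ∈ ((Z : Set X) ∪ {u, v}), a * b = b * a := by
          have huv' : u * v = v * u := commutatorElement_eq_one_iff_mul_comm.mp h
          rintro a (ha | rfl | rfl) b (hb | rfl | rfl) <;>
            first
              | rfl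
              | exact huv'
              | exact huv'.symm
              | exact (mem_center_iff.mp ha _).symm
              | exact mem_center_iff.mp hb _
        have htop : ∀ x : X, x ∈ closure ((Z : Set X) ∪ {u, v}) := by
          intro x
          have hle : Z ⊔ zpowers u ⊔ zpowers v ≤ closure ((Z : Set X) ∪ {u, v}) :=
            sup_le (sup_le (fun x hx => subset_closure (Or.inl hx))
              (zpowers_le.mpr (subset_closure (Or.inr (Set.mem_insert _ _)))))
              (zpowers_le.mpr (subset_closure (Or.inr (Set.mem_insert_of_mem _ rfl))))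
          exact hle (htop2.ge (mem_top x))
        exact ⟨⟨fun a b => congrArg Subtype.val
          (@mul_comm' _ _ (isMulCommutative_closure hgen) ⟨a, htop a⟩ ⟨b, htop b⟩)⟩⟩
      have hvu : ⁅v, u⁆ = z := by
        rw [← commutatorElement_inv, hcu]; exact inv_eq_of_mul_eq_one_left (hZe z hz)
      have hvv : v * v = u * u := by
        rw [hv, ← map_mul]; exact (hfixc _).mp (hsq u) a ha
      have huu : u * u = z := by
        refine (hZ01 _ (hsq u)).resolve_left fun h => ?_
        -- all three cosets would consist of involutions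
        have h1 : (u * v) * (u * v) = z := by rw [hmulsq, hvv, h, hvu]; simp
        obtain ⟨b, hb, hbu⟩ := hfree (u * v) fun hc => huv (by
          rw [show v = u⁻¹ * (u * v) by group]
          exact mul_mem (inv_mem (mem_sup_right (mem_zpowers u))) (mem_sup_left hc))
        apply hbu
        refine hcoset b hb _ ?_
        have hbw : b (u * v) * b (u * v) = z := by
          rw [← map_mul, h1, (hfixc z).mp hz b hb]
        have hcov : Z ⊔ zpowers u ⊔ zpowers v = ⊤ := htop2
        haveI : (Z ⊔ zpowers u).Normal := PGroup.normal_of_comm_mem le_sup_left fun g b _ => hcm g b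
        obtain ⟨y, hy, r, hr, he⟩ := mem_sup_of_normal_left.mp
          (show b (u * v) ∈ (Z ⊔ zpowers u) ⊔ zpowers v from hcov.ge (mem_top _)) |> fun h => (show
            ∃ y ∈ Z ⊔ zpowers u, ∃ r ∈ zpowers v, y * r = b (u * v) from h)
        obtain ⟨c, hc, r', hr', rfl⟩ := mem_sup_of_normal_left.mp hy
        obtain ⟨i, rfl⟩ := mem_zpowers_iff.mp hr'
        obtain ⟨j, rfl⟩ := mem_zpowers_iff.mp hr
        have hred : ∀ (t : X), t * t = 1 → ∀ i : ℤ, t ^ i = 1 ∨ t ^ i = t := fun t ht i => by
          rcases Int.even_or_odd i with ⟨j, rfl⟩ | ⟨j, rfl⟩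
          · exact Or.inl (by rw [zpow_add, ← (Commute.refl t).mul_zpow, ht, one_zpow])
          · exact Or.inr (by rw [zpow_add_one, zpow_mul, zpow_two, ht, one_zpow, one_mul])
        have hcsq : ∀ t : X, c * t * (c * t) = t * t := fun t => by
          rw [hmulsq, hZe c hc, one_mul,
            commutatorElement_eq_one_iff_mul_comm.mpr (mem_center_iff.mp hc t), mul_one]
        rw [← he] at hbw ⊢
        rcases hred u h i with e1 | e1 <;> rcases hred v (hvv.trans h) j with e2 | e2 <;>
          simp only [e1, e2, mul_one] at hbw ⊢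
        · rw [hZe c hc] at hbw; exact absurd hbw.symm hz1
        · rw [hcsq, hvv, h] at hbw; exact absurd hbw.symm hz1
        · rw [hcsq, h] at hbw; exact absurd hbw.symm hz1
        · rw [mul_assoc c u v, ← mem_center_iff.mp hc (u * v), inv_mul_cancel_left]; exact hc
      obtain ⟨φ, hφa, hφb⟩ := Cfsg.Agent.Perm.ClassTwo.exists_quaternion_hom u v hvv.symm
        (by rw [hvv, huu]; exact hZe z hz) (by
          have e : u * v * u = u * u * v * ⁅v⁻¹, u⁻¹⁆⁻¹⁻¹ := by rw [commutatorElement_def]; group
          rw [e, PGroup.comm_inv_left hcl, PGroup.comm_inv_right hcl, inv_inv, inv_inv, hvu, huu,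
            mul_assoc, mem_center_iff.mp hz v, ← mul_assoc, hZe z hz, one_mul])
      have hsurj : Function.Surjective φ := by
        rw [← MonoidHom.range_eq_top]
        refine eq_top_of_le_card _ ?_
        have h1 : Z ⊔ zpowers u ⊔ zpowers v ≤ φ.range := by
          refine sup_le (sup_le (fun x hx => ?_) (zpowers_le.mpr ⟨_, hφa⟩)) (zpowers_le.mpr ⟨_, hφb⟩)
          rcases hZ01 x hx with rfl | rfl
          · exact one_mem _
          · rw [← huu]; exact mul_mem ⟨_, hφa⟩ ⟨_, hφa⟩
        exact (card_top (G := X)).ge.trans (card_le_of_le (htop2.ge.trans h1))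
      have hbij : Function.Bijective φ := (Nat.bijective_iff_surjective_and_card φ).mpr
        ⟨hsurj, by rw [hcard, Nat.card_eq_fintype_card, QuaternionGroup.card]⟩
      exact ⟨(MulEquiv.ofBijective φ hbij).symm⟩
    right; right
    -- an involution outside the centre
    let β : X → (X →* Z) := fun t => MonoidHom.mk' (fun y => ⟨⁅y, t⁆, hcm y t⟩)
      fun a b => Subtype.ext (PGroup.comm_mul_left hcl a b t)
    have hker : ∀ t y, y ∈ (β t).ker ↔ y * t = t * y := fun t y => by
      rw [MonoidHom.mem_ker, ← commutatorElement_eq_one_iff_mul_comm]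
      exact ⟨fun h => congrArg Subtype.val h, fun h => Subtype.ext h⟩
    have hkercard : ∀ (t : X) (H : Subgroup X), Nat.card H ≤ 2 * Nat.card (H ⊓ (β t).ker : Subgroup X) := by
      intro t H
      set K := (β t).ker
      have h1 := (K.subgroupOf H).card_mul_index
      have h2 : (K.subgroupOf H).index ≤ 2 := by
        have h3 : (K.subgroupOf H).index ≤ K.index :=
          Nat.le_of_dvd (Nat.pos_of_ne_zero index_ne_zero_of_finite) (K.relIndex_dvd_index_of_normal H)
        rw [show K.index = Nat.card (β t).range from index_ker _] at h3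
        exact h3.trans ((Nat.card_le_card_of_injective _ (Subgroup.subtype_injective _)).trans hZ2.le)
      have h4 : Nat.card (K.subgroupOf H) = Nat.card (H ⊓ K : Subgroup X) := by
        rw [← inf_subgroupOf_right, inf_comm]
        exact Nat.card_congr (subgroupOfEquivOfLe inf_le_left).toEquiv
      rw [← h1, h4, mul_comm 2]
      exact Nat.mul_le_mul le_rfl h2
    have hmem : ∀ (H : Subgroup X), Z ≤ H → 16 ≤ Nat.card H → ∃ v ∈ H, v * v = 1 ∧ v ∉ Z := by
      intro H hZH hH
      obtain ⟨x, hxH, hxZ⟩ : ∃ x ∈ H, x ∉ Z := by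
        by_contra h
        push Not at h
        have := card_le_of_le (show H ≤ Z from h)
        omega
      rcases hZ01 _ (hsq x) with h | h
      · exact ⟨x, hxH, h, hxZ⟩
      have h8 := hkercard x H
      obtain ⟨y, ⟨hyH, hyx⟩, hyZ⟩ : ∃ y ∈ H ⊓ (β x).ker, y ∉ Z ⊔ zpowers x := by
        by_contra hall
        push Not at hall
        have h5 := card_le_of_le (show H ⊓ (β x).ker ≤ Z ⊔ zpowers x from hall)
        have := hgrow Z le_rfl x
        omega
      rcases hZ01 _ (hsq y) with h' | h'
      · exact ⟨y, hyH, h', fun hc => hyZ (mem_sup_left hc)⟩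
      refine ⟨x * y, mul_mem hxH hyH, ?_, fun hc => hyZ ?_⟩
      · rw [hmulsq, h, h', hZe z hz, one_mul, commutatorElement_eq_one_iff_mul_comm]
        exact (hker x y).mp hyx
      · rw [show y = x⁻¹ * (x * y) by group]
        exact mul_mem (inv_mem (mem_sup_right (mem_zpowers x))) (mem_sup_left hc)
    have h16 : 16 ≤ Nat.card X := by
      rw [hXq, hk, hZ2]
      have : 2 ^ 3 ≤ 2 ^ k := Nat.pow_le_pow_right (by norm_num) hk3
      omega
    obtain ⟨v, -, hv, hvZ⟩ := hmem ⊤ le_top (by rwa [card_top])
    set C := (β v).ker with hC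
    have hCcard : Nat.card X ≤ 2 * Nat.card C := by
      have := hkercard v ⊤
      rwa [card_top, top_inf_eq] at this
    set Zv := Z ⊔ zpowers v with hZv
    have hZvcard : Nat.card Zv ≤ 4 := (hgrow Z le_rfl v).trans (by rw [hZ2])
    -- order at most 32
    have hk4 : k = 4 := by
      by_contra hk4
      have hk5 : 5 ≤ k := by
        rcases (show k = 3 ∨ 5 ≤ k by omega) with rfl | h
        · exact absurd hk hno8
        · exact h
      have : 2 ^ 5 ≤ 2 ^ k := Nat.pow_le_pow_right (by norm_num) hk5
      rw [hXq, hk, hZ2] at hCcard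
      obtain ⟨x, hxC, hxv⟩ : ∃ x ∈ C, x ∉ Zv := by
        by_contra hall
        push Not at hall
        have := card_le_of_le (show C ≤ Zv from hall)
        omega
      rcases hZ01 _ (hsq x) with h | h
      · exact hxv (hE8 v x hv h ((hker v x).mp hxC).symm hvZ)
      have h8 := hkercard x C
      obtain ⟨y, ⟨hyC, hyx⟩, hyv⟩ : ∃ y ∈ C ⊓ (β x).ker, y ∉ Zv ⊔ zpowers x := by
        by_contra hall
        push Not at hall
        have h5 := card_le_of_le (show C ⊓ (β x).ker ≤ Zv ⊔ zpowers x from hall)
        have := hgrow Zv le_sup_left x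
        omega
      rcases hZ01 _ (hsq y) with h' | h'
      · exact hyv (mem_sup_left (hE8 v y hv h' ((hker v y).mp hyC).symm hvZ))
      apply hyv
      have hxy : x * y ∈ Zv := hE8 v (x * y) hv
        (by rw [hmulsq, h, h', hZe z hz, one_mul, commutatorElement_eq_one_iff_mul_comm]
            exact (hker x y).mp hyx)
        ((hker v _).mp (mul_mem hxC hyC)).symm hvZ
      rw [show y = x⁻¹ * (x * y) by group]
      exact mul_mem (inv_mem (mem_sup_right (mem_zpowers x))) (mem_sup_left hxy)
    have hcard : Nat.card X = 32 := by rw [hXq, hk, hZ2, hk4]; norm_num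
    refine ⟨hext, hcard, ?_⟩
    -- counting involutions
    haveI := Fintype.ofFinite X
    let S : Finset X := Finset.univ.filter fun x => x * x = 1
    have hCv : v ∈ C := (hker v v).mpr rfl
    have hCmem : ∀ x ∈ C, x * x = 1 ↔ x ∈ Zv := fun x hxC => ⟨fun h => hE8 v x hv h ((hker v x).mp hxC).symm hvZ,
      fun h => by
        obtain ⟨c, hc, r, hr, rfl⟩ := mem_sup_of_normal_left.mp h
        obtain ⟨i, rfl⟩ := mem_zpowers_iff.mp hr
        have hcv : c * v ^ i = v ^ i * c := (mem_center_iff.mp hc _).symm
        calc c * v ^ i * (c * v ^ i) = c * (v ^ i * c) * v ^ i := by simp only [mul_assoc]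
          _ = (c * c) * (v ^ i * v ^ i) := by rw [← hcv]; simp only [mul_assoc]
          _ = 1 := by rw [hZe c hc, ← (Commute.refl v).mul_zpow, hv, one_zpow, one_mul]⟩
    have hdichC : ∀ x, x ∉ C → (x * v * (x * v) = 1 ↔ ¬ x * x = 1) ∧ x * v ∉ C := fun x hx => by
      have hc : ⁅v, x⁆ = z := (hZ01 _ (hcm v x)).resolve_left fun h => hx
        ((hker v x).mpr (commutatorElement_eq_one_iff_mul_comm.mp h).symm)
      refine ⟨?_, fun h => hx ?_⟩
      · rw [hmulsq, hv, hc, mul_one]
        rcases hZ01 _ (hsq x) with h | h <;> rw [h]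
        · simp [hz1]
        · simp [hz1, hZe z hz]
      · rw [show x = x * v * v⁻¹ by group]
        exact mul_mem h (inv_mem hCv)
    have hCcard16 : Nat.card C = 16 := by
      have h1 := C.card_mul_index
      have h2 : C.index = 2 := by
        have h3 : C.index ≤ 2 := by
          rw [hC, index_ker]
          exact (Nat.card_le_card_of_injective _ (Subgroup.subtype_injective _)).trans hZ2.le
        have h4 : C.index ≠ 1 := fun h => hvZ (mem_center_iff.mpr fun y =>
          (hker v y).mp ((index_eq_one.mp h).ge (mem_top y)))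
        have h5 : C.index ≠ 0 := index_ne_zero_of_finite
        omega
      rw [h2, hcard] at h1
      omega
    have hZv4 : Nat.card Zv = 4 := by
      have h1 : Z < Zv := lt_of_le_of_ne le_sup_left fun h => hvZ (h ▸ mem_sup_right (mem_zpowers v))
      have h2 : Nat.card Z < Nat.card Zv := lt_of_le_of_ne (card_le_of_le h1.le)
        fun h => h1.ne (eq_of_le_of_card_ge h1.le h.ge)
      obtain ⟨a, ha⟩ := PGroup.exists_card_eq_pow hX Zv
      rcases a with _ | _ | a
      · rw [ha] at h2; omega
      · rw [ha, hZ2] at h2; omega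
      · have h3 : 4 ≤ 2 ^ (a + 2) := Nat.pow_le_pow_right (by norm_num : 0 < 2) (by omega : 2 ≤ a + 2)
        omega
    have hnC : (Finset.univ.filter fun x : X => x ∉ C).card = 16 := by
      have h1 := Finset.card_filter_add_card_filter_not (s := (Finset.univ : Finset X)) fun x => x ∈ C
      have h2 : (Finset.univ.filter fun x : X => x ∈ C).card = 16 := by
        rw [← hCcard16, Nat.card_eq_fintype_card, Fintype.card_subtype]
      rw [h2, Finset.card_univ, ← Nat.card_eq_fintype_card, hcard] at h1
      omega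
    have hout : 2 * (S.filter fun x => x ∉ C).card = 16 := by
      have h1 : (Finset.univ.filter fun x : X => x ∉ C).card =
          (S.filter fun x => x ∉ C).card + (S.filter fun x => x ∉ C).card := by
        rw [← Finset.card_filter_add_card_filter_not (s := Finset.univ.filter fun x : X => x ∉ C)
          fun x => x * x = 1]
        congr 1
        · congr 1; ext x; simp [S, and_comm]
        · refine Finset.card_bij' (fun x _ => x * v) (fun x _ => x * v) ?_ ?_ ?_ ?_
          · intro x hx
            simp only [Finset.mem_filter, Finset.mem_univ, true_and, S] at hx ⊢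
            exact ⟨((hdichC x hx.1).1).mpr hx.2, (hdichC x hx.1).2⟩
          · intro x hx
            simp only [Finset.mem_filter, Finset.mem_univ, true_and, S] at hx ⊢
            refine ⟨(hdichC x hx.2).2, fun h => ?_⟩
            exact ((hdichC x hx.2).1.mp h) hx.1
          · intro x _; rw [mul_assoc, hv, mul_one]
          · intro x _; rw [mul_assoc, hv, mul_one]
      omega
    have hin : (S.filter fun x => x ∈ C).card = 4 := by
      rw [← hZv4, Nat.card_eq_fintype_card, Fintype.card_subtype]
      congr 1; ext x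
      simp only [Finset.mem_filter, Finset.mem_univ, true_and, S]
      refine ⟨fun h => (hCmem x h.2).mp h.1, fun h => ?_⟩
      have hxC : x ∈ C := (show Zv ≤ C from sup_le (fun c hc => (hker v c).mpr (mem_center_iff.mp hc v).symm)
        (zpowers_le.mpr hCv)) h
      exact ⟨(hCmem x hxC).mpr h, hxC⟩
    have hS : S.card = 12 := by
      rw [← Finset.card_filter_add_card_filter_not (s := S) fun x => x ∈ C]
      omega
    have h1 : (Finset.univ.filter fun x : X => orderOf x = 2) = S.erase 1 := by
      ext x
      simp only [Finset.mem_filter, Finset.mem_univ, true_and, Finset.mem_erase, S]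
      rw [orderOf_eq_prime_iff, pow_two]
      exact ⟨fun h => ⟨h.2, h.1⟩, fun h => ⟨h.2, h.1⟩⟩
    rw [Nat.card_eq_fintype_card, Fintype.card_subtype, h1, Finset.card_erase_of_mem (by simp [S]), hS]
  · -- centre of order four
    right; left
    have hinv : ∀ x : X, x * x = 1 → x ∈ Z := fun x hx =>
      mem_of_sq_eq_one hs le_rfl hZ4' hZe hx fun g => hcm g x
    have h64 := card_le_64 (W := Z) le_rfl hZe hsq hX hZ4' hinv
    have hk4 : k = 4 := by
      by_contra hk4
      rw [hXq, hk, hZ4'] at h64
      have hk2 : k = 2 := by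
        rcases (show k ≤ 2 ∨ k = 3 ∨ 5 ≤ k by omega) with h | rfl | h
        · by_contra hk2
          have : 2 ^ k ≤ 2 ^ 1 := Nat.pow_le_pow_right (by norm_num) (by omega)
          omega
        · exact absurd hk hno8
        · have : 2 ^ 5 ≤ 2 ^ k := Nat.pow_le_pow_right (by norm_num) h
          omega
      -- the derived subgroup would be cyclic
      subst hk2
      obtain ⟨v, hv⟩ : ∃ v, v ∉ Z ⊔ zpowers u := by
        by_contra h
        push Not at h
        have := card_le_of_le (show (⊤ : Subgroup X) ≤ Z ⊔ zpowers u from fun x _ => h x)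
        have := hgrow Z le_rfl u
        rw [card_top, hXq, hk] at *
        omega
      have htop : Z ⊔ zpowers u ⊔ zpowers v = ⊤ := by
        have := hgen2 u v hu hv
        exact eq_top_of_le_card _ (by rw [hXq, hk, hZ4']; omega)
      have hle : commutator X ≤ zpowers ⁅u, v⁆ := by
        let T : Subgroup X :=
          { carrier := {x | ⁅x, u⁆ ∈ zpowers ⁅u, v⁆ ∧ ⁅x, v⁆ ∈ zpowers ⁅u, v⁆}
            one_mem' := by simp
            mul_mem' := fun {a b} ha hb => by
              simp only [Set.mem_ofPred_eq, PGroup.comm_mul_left hcl]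
              exact ⟨mul_mem ha.1 hb.1, mul_mem ha.2 hb.2⟩
            inv_mem' := fun {a} ha => by
              simp only [Set.mem_ofPred_eq, PGroup.comm_inv_left hcl]
              exact ⟨inv_mem ha.1, inv_mem ha.2⟩ }
        have hT : ∀ x, x ∈ T := fun x => by
          refine (sup_le (sup_le (fun c hc => ?_) (zpowers_le.mpr ?_)) (zpowers_le.mpr ?_) :
            Z ⊔ zpowers u ⊔ zpowers v ≤ T) (htop.ge (mem_top x))
          · refine ⟨?_, ?_⟩ <;>
              rw [commutatorElement_eq_one_iff_mul_comm.mpr (mem_center_iff.mp hc _).symm] <;>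
              exact one_mem _
          · exact ⟨by simp, mem_zpowers _⟩
          · exact ⟨by rw [← commutatorElement_inv u v]; exact inv_mem (mem_zpowers _), by simp⟩
        rw [_root_.commutator_def, commutator_le]
        intro a _ b _
        let T' : Subgroup X :=
          { carrier := {y | ⁅a, y⁆ ∈ zpowers ⁅u, v⁆}
            one_mem' := by simp
            mul_mem' := fun {y y'} hy hy' => by
              simp only [Set.mem_ofPred_eq, PGroup.comm_mul_right hcl]; exact mul_mem hy hy'
            inv_mem' := fun {y} hy => by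
              simp only [Set.mem_ofPred_eq, PGroup.comm_inv_right hcl]; exact inv_mem hy }
        refine (sup_le (sup_le (fun c hc => ?_) (zpowers_le.mpr (hT a).1)) (zpowers_le.mpr (hT a).2) :
          Z ⊔ zpowers u ⊔ zpowers v ≤ T') (htop.ge (mem_top b))
        show ⁅a, c⁆ ∈ zpowers ⁅u, v⁆
        rw [commutatorElement_eq_one_iff_mul_comm.mpr (mem_center_iff.mp hc a)]; exact one_mem _
      rw [hsp.2.2] at hle
      have h1 := card_le_of_le hle
      rw [Nat.card_zpowers, hZ4'] at h1
      have h2 : orderOf ⁅u, v⁆ ≤ 2 := Nat.le_of_dvd two_pos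
        (orderOf_dvd_of_pow_eq_one (by rw [pow_two]; exact hZe _ (hcm u v)))
      omega
    refine ⟨hsp, by rw [hXq, hk, hk4, hZ4']; norm_num, ?_, fun x hx => hinv x ?_⟩
    · haveI := Fintype.ofFinite X
      have h1 : (Finset.univ.filter fun x : X => orderOf x = 2) =
          (Finset.univ.filter fun x : X => x ∈ Z).erase 1 := by
        ext x
        simp only [Finset.mem_filter, Finset.mem_univ, true_and, Finset.mem_erase]
        rw [orderOf_eq_prime_iff, pow_two]
        exact ⟨fun h => ⟨h.2, hinv x h.1⟩, fun h => ⟨hZe x h.2, h.1⟩⟩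
      rw [Nat.card_eq_fintype_card, Fintype.card_subtype, h1, Finset.card_erase_of_mem (by simp),
        ← Fintype.card_subtype, ← Nat.card_eq_fintype_card]
      rw [hZ4']
    · rw [← pow_two, ← hx, pow_orderOf_eq_one]

end Cfsg.Agent.ClassTech.SCNFour
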