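import Cfsg.Agent.ClassTech.SCNFour.Basic
import Cfsg.Agent.Lib.PGroup.NormalAbelian

/-!
The case in which an operator of odd order rotates the involutions of the centre.
-/

set_option autoImplicit false

namespace Cfsg.Agent.ClassTech.SCNFour

open Subgroup
open scoped commutatorElement

variable {X : Type*} [Group X] [Finite X]

/-- The data of the rotating case: a four-group of central elements and an operator permuting its
involutions cyclically. -/
structure Setting (X : Type*) [Group X] where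
  /-- the four-group -/
  W : Subgroup X
  /-- the operators -/
  A : Subgroup (MulAut X)
  /-- the rotation -/
  a : MulAut X
  hX : IsPGroup 2 X
  hs : Small X
  haA : a ∈ A
  hWdef : ∀ x, x ∈ W ↔ x ∈ center X ∧ x * x = 1
  hW4 : Nat.card W = 4
  hfree : ∀ w ∈ W, a w = w → w = 1
  hgen : closure {g : X | ∃ φ ∈ A, ∃ x : X, g = x⁻¹ * φ x} = ⊤
  hA : ∀ φ ∈ A, ∃ i : ℕ, i < 3 ∧ ∀ w ∈ W, φ w = (a ^ i) w
  hodd : Odd (Nat.card A)
  hna : ¬ IsMulCommutative X

namespace Setting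

variable (S : Setting X)

omit [Finite X] in
theorem hWc : S.W ≤ center X := fun _ hx => ((S.hWdef _).mp hx).1

omit [Finite X] in
theorem hWe : ∀ w ∈ S.W, w * w = 1 := fun _ hx => ((S.hWdef _).mp hx).2

omit [Finite X] in
theorem wsq (w : S.W) : w * w = 1 := Subtype.ext (S.hWe w w.2)

omit [Finite X] in
theorem map_W {φ : MulAut X} {w : X} (hw : w ∈ S.W) : φ w ∈ S.W := by
  rw [S.hWdef] at hw ⊢
  refine ⟨mem_center_iff.mpr fun g => ?_, by rw [← map_mul, hw.2, map_one]⟩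
  have h := congrArg φ (mem_center_iff.mp hw.1 (φ.symm g))
  rwa [map_mul, map_mul, MulEquiv.apply_symm_apply] at h

/-- The rotation on the four-group. -/
noncomputable def aW : S.W ≃* S.W where
  toFun w := ⟨S.a w, S.map_W w.2⟩
  invFun w := ⟨S.a.symm w, S.map_W w.2⟩
  left_inv w := Subtype.ext (S.a.symm_apply_apply w)
  right_inv w := Subtype.ext (S.a.apply_symm_apply w)
  map_mul' _ _ := Subtype.ext (map_mul S.a _ _)

omit [Finite X] in
theorem aW_apply (w : S.W) : ((S.aW w : S.W) : X) = S.a w := rfl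

omit [Finite X] in
theorem aW_symm_apply (w : S.W) : ((S.aW.symm w : S.W) : X) = S.a.symm w := rfl

omit [Finite X] in
theorem aW_free : ∀ w, S.aW w = w → w = 1 := fun w h =>
  Subtype.ext (S.hfree w w.2 (congrArg Subtype.val h))

omit [Finite X] in
theorem eq_one_of_odd {w : X} (hw : w ∈ S.W) {n : ℕ} (hn : Odd n) (h : w ^ n = 1) : w = 1 := by
  obtain ⟨k, rfl⟩ := hn
  rwa [pow_succ, pow_mul, pow_two, S.hWe w hw, one_pow, one_mul] at h

theorem normal_W : S.W.Normal :=
  ⟨fun w hw g => by rwa [mem_center_iff.mp (S.hWc hw) g, mul_inv_cancel_right]⟩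

/-- Only the trivial subgroup of `W` invariant under the rotation is proper. -/
theorem W_le_of_invariant {H : Subgroup X} (hH : ∀ w ∈ H, S.a w ∈ H) {w : X} (hw : w ∈ H)
    (hwW : w ∈ S.W) (hw1 : w ≠ 1) : S.W ≤ H := by
  classical
  obtain ⟨e, he1, he2, h0, hadd⟩ := exists_equiv S.W S.hW4 S.wsq (u := ⟨w, hwW⟩)
    (v := S.aW ⟨w, hwW⟩) (fun h => hw1 (congrArg Subtype.val h))
    (fun h => hw1 (congrArg Subtype.val (S.aW.injective (h.trans (map_one S.aW).symm))))
    (fun h => hw1 (congrArg Subtype.val (S.aW_free _ h.symm)))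
  intro x hx
  obtain ⟨v, hv⟩ := e.surjective ⟨x, hx⟩
  have hall : ∀ v : V2, v = 0 ∨ v = (1, 0) ∨ v = (0, 1) ∨ v = (1, 0) + (0, 1) := by decide +revert
  have hx' : x = (e v : X) := (congrArg Subtype.val hv).symm
  rw [hx']
  rcases hall v with rfl | rfl | rfl | rfl
  · rw [h0]; exact one_mem _
  · rw [he1]; exact hw
  · rw [he2]; exact hH w hw
  · rw [hadd, he1, he2]; exact mul_mem hw (hH w hw)

/-- The commutator of `x` with `d`, when it lies in the four-group, as an element of it. -/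
noncomputable def cW (x d : X) (h : ⁅x, d⁆ ∈ S.W) : S.W := ⟨⁅x, d⁆, h⟩

end Setting

variable (S : Setting X)

/-- A maximal invariant normal abelian subgroup. -/
theorem exists_maximal_D : ∃ D : Subgroup X, D.Normal ∧ IsMulCommutative D ∧ center X ≤ D ∧
    (∀ φ ∈ S.A, ∀ d ∈ D, φ d ∈ D) ∧
    ∀ B : Subgroup X, B.Normal → IsMulCommutative B → D ≤ B → (∀ φ ∈ S.A, ∀ b ∈ B, φ b ∈ B) → B = D := by
  obtain ⟨D, ⟨h1, h2, h3, h4⟩, hmax⟩ :=
    (Set.toFinite {D : Subgroup X | D.Normal ∧ IsMulCommutative D ∧ center X ≤ D ∧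
      ∀ φ ∈ S.A, ∀ d ∈ D, φ d ∈ D}).exists_maximal ⟨center X, inferInstance, inferInstance, le_rfl,
        fun φ _ d hd => (Subgroup.characteristic_iff_le_comap.mp centerCharacteristic φ) hd⟩
  exact ⟨D, h1, h2, h3, h4, fun B hB hBc hDB hBA =>
    le_antisymm (hmax ⟨hB, hBc, h3.trans hDB, hBA⟩ hDB) hDB⟩

/-- All squares lie in `W`. -/
theorem sq_mem : ∀ x : X, x * x ∈ S.W := by
  classical
  haveI : Fact (Nat.Prime 2) := ⟨Nat.prime_two⟩
  haveI := S.normal_W
  have hWc := S.hWc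
  have hWe := S.hWe
  obtain ⟨D, hDn, hDc, hZD, hDA, hDmax⟩ := exists_maximal_D S
  haveI := hDn
  have hWD : S.W ≤ D := hWc.trans hZD
  have hcomm : ∀ a ∈ D, ∀ b ∈ D, a * b = b * a := fun a ha b hb =>
    congrArg Subtype.val (hDc.is_comm.comm (⟨a, ha⟩ : D) ⟨b, hb⟩)
  have hmulD : ∀ a ∈ D, ∀ b ∈ D, ∀ n : ℕ, (a * b) ^ n = a ^ n * b ^ n := fun a ha b hb n =>
    Commute.mul_pow (hcomm a ha b hb) n
  -- involutions of an invariant or normal abelian subgroup lie in `W`
  have hinvol : ∀ B : Subgroup X, B.Normal → IsMulCommutative B → ∀ b ∈ B, b * b = 1 → b ∈ S.W := by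
    intro B hB hBc b hb hb1
    haveI := hBc
    let E : Subgroup X :=
      { carrier := {e | e ∈ B ∧ e * e = 1}
        one_mem' := ⟨one_mem _, one_mul 1⟩
        mul_mem' := fun {x y} hx hy => ⟨mul_mem hx.1 hy.1, by
          have h : x * y = y * x := congrArg Subtype.val (mul_comm' (⟨x, hx.1⟩ : B) ⟨y, hy.1⟩)
          calc x * y * (x * y) = x * (y * x) * y := by simp only [mul_assoc]
            _ = (x * x) * (y * y) := by rw [← h]; simp only [mul_assoc]
            _ = 1 := by rw [hx.2, hy.2, one_mul]⟩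
        inv_mem' := fun {x} hx => ⟨inv_mem hx.1, by rw [← mul_inv_rev, hx.2, inv_one]⟩ }
    have hEn : E.Normal := ⟨fun e he g => ⟨hB.conj_mem e he.1 g, by
      rw [show g * e * g⁻¹ * (g * e * g⁻¹) = g * (e * e) * g⁻¹ by group, he.2]; group⟩⟩
    exact le_of_elementary S.hs (E := E) hWc S.hW4 hWe hEn
      ⟨⟨fun x y => Subtype.ext (congrArg Subtype.val (mul_comm' (⟨x, x.2.1⟩ : B) ⟨y, y.2.1⟩) : _)⟩⟩
      (fun e he => he.2) ⟨hb, hb1⟩
  have hΩ : ∀ d ∈ D, d * d = 1 → d ∈ S.W := hinvol D hDn hDc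
  have haD : ∀ d ∈ D, S.a d ∈ D := hDA S.a S.haA
  -- exponent
  have hex : ∃ m, ∀ d ∈ D, d ^ 2 ^ m = 1 := by
    obtain ⟨n, hn⟩ := IsPGroup.iff_card.mp S.hX
    exact ⟨n, fun d _ => by rw [← hn]; exact pow_card_eq_one'⟩
  have hm := Nat.find_spec hex
  have hmin : ∀ j < Nat.find hex, ¬ ∀ d ∈ D, d ^ 2 ^ j = 1 := fun j hj => Nat.find_min hex hj
  generalize Nat.find hex = m at hm hmin
  rcases m with _ | m
  · exfalso
    have hle : S.W ≤ ⊥ := fun w hw => by
      have h := hm w (hWD hw)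
      rwa [pow_zero, pow_one] at h
    have := card_le_of_le hle
    rw [S.hW4, card_bot] at this
    omega
  obtain ⟨d0, hd0, hd0'⟩ : ∃ d ∈ D, d ^ 2 ^ m ≠ 1 := by
    have := hmin m (Nat.lt_succ_self m); push Not at this; exact this
  have hπmem : ∀ d ∈ D, d ^ 2 ^ m ∈ S.W := fun d hd => hΩ _ (pow_mem hd _) (by
    rw [← pow_add, ← two_mul, ← pow_succ']; exact hm d hd)
  let π : D →* S.W := MonoidHom.mk' (fun d => ⟨(d : X) ^ 2 ^ m, hπmem d d.2⟩)
    fun a b => Subtype.ext (hmulD a a.2 b b.2 _)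
  have hπsurj : Function.Surjective π := by
    intro w
    let H : Subgroup X := (π.range).map S.W.subtype
    have hH : ∀ w ∈ H, S.a w ∈ H := by
      rintro _ ⟨_, ⟨d, rfl⟩, rfl⟩
      exact ⟨π ⟨S.a d, haD d d.2⟩, ⟨_, rfl⟩, (map_pow S.a (d : X) (2 ^ m)).symm⟩
    have hle := S.W_le_of_invariant hH (w := d0 ^ 2 ^ m) ⟨_, ⟨⟨d0, hd0⟩, rfl⟩, rfl⟩ (hπmem _ hd0) hd0'
    obtain ⟨w', ⟨d, hd⟩, hw'⟩ := hle w.2
    exact ⟨d, hd.trans (Subtype.ext hw')⟩
  have hπex : ∀ w ∈ S.W, ∃ d ∈ D, d ^ 2 ^ m = w := fun w hw => by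
    obtain ⟨d, hd⟩ := hπsurj ⟨w, hw⟩
    exact ⟨d, d.2, congrArg Subtype.val hd⟩
  rcases m with _ | m
  · -- `D = W`
    have hDW : D = S.W := le_antisymm (fun d hd => by simpa using hπmem d hd) hWD
    have hZW : center X ≤ S.W := hDW ▸ hZD
    let T : Subgroup X :=
      { carrier := {x | (∀ g, ⁅g, x⁆ ∈ S.W) ∧ x * x ∈ S.W}
        one_mem' := ⟨fun g => by simp, by simp⟩
        mul_mem' := fun {x y} hx hy => by
          have hxy : ∀ g, ⁅g, x * y⁆ ∈ S.W := fun g => by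
            rw [commutatorElement_mul_right_eq_mul_conj, mul_assoc ⁅g, x⁆ x,
              ← mem_center_iff.mp (hWc (hy.1 g)) x |>.symm]
            simp only [mul_assoc, mul_inv_cancel, mul_one]
            exact mul_mem (hx.1 g) (hy.1 g)
          refine ⟨hxy, ?_⟩
          have hc := hWc (hx.1 y)
          have h := PGroup.mul_pow_of_commute_commutator (PGroup.commute_of_mem_center hc x)
            (PGroup.commute_of_mem_center hc y) 2
          simp only [pow_two] at h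
          rw [h, Nat.choose_self, pow_one]
          exact mul_mem (mul_mem hx.2 hy.2) (hx.1 y)
        inv_mem' := fun {x} hx => ⟨fun g => by
            have h := hx.1 (x⁻¹ * g * x)
            have e : ⁅g, x⁻¹⁆ = x⁻¹ * ⁅g, x⁆⁻¹ * x := by simp [commutatorElement_def, mul_assoc]
            rw [e, mem_center_iff.mp (hWc (inv_mem (hx.1 g))) x⁻¹, mul_assoc, inv_mul_cancel, mul_one]
            exact inv_mem (hx.1 g),
          by rw [← mul_inv_rev]; exact inv_mem hx.2⟩ }
    have hWT : S.W ≤ T := fun w hw => ⟨fun g => by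
      rw [commutatorElement_eq_one_iff_mul_comm.mpr (mem_center_iff.mp (hWc hw) g)]; exact one_mem _,
      by rw [hWe w hw]; exact one_mem _⟩
    have hTn : T.Normal := PGroup.normal_of_comm_mem hWT fun g x hx => hx.1 g
    haveI := hTn
    have hTA : ∀ φ ∈ S.A, ∀ x ∈ T, φ x ∈ T := fun φ _ x hx => ⟨fun g => by
      have h := S.map_W (φ := φ) (hx.1 (φ.symm g))
      rwa [map_commutatorElement, MulEquiv.apply_symm_apply] at h,
      by rw [← map_mul]; exact S.map_W hx.2⟩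
    -- the centre of `T`
    have hZT : T ⊓ centralizer (T : Set X) = D := by
      refine hDmax _ inferInstance ⟨⟨fun a b => Subtype.ext ?_⟩⟩ ?_ ?_
      · exact mem_centralizer_iff.mp b.2.2 a a.2.1
      · rw [hDW]
        exact fun w hw => ⟨hWT hw, mem_centralizer_iff.mpr fun g _ => mem_center_iff.mp (hWc hw) g⟩
      · intro φ hφ x hx
        refine ⟨hTA φ hφ x hx.1, mem_centralizer_iff.mpr fun g hg => ?_⟩
        have h1 : φ.symm g ∈ T := hTA φ.symm (inv_mem hφ) g hg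
        have h := congrArg φ (mem_centralizer_iff.mp hx.2 _ h1)
        rwa [map_mul, map_mul, MulEquiv.apply_symm_apply] at h
    have hCT : centralizer (T : Set X) ≤ S.W := by
      by_contra hne
      obtain ⟨x, hx, hxW, hx2, hxg, -, -⟩ := PGroup.exists_normal_between S.hX hne
      exact hxW (hDW ▸ hZT ▸ ⟨⟨hxg, by rwa [← pow_two]⟩, hx⟩)
    intro x
    refine hCT (mem_centralizer_iff.mpr fun t ht => ?_)
    have hw := ht.1 x
    have h1 : x * t * x⁻¹ = ⁅x, t⁆ * t := by rw [commutatorElement_def]; group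
    have h2 : x * (x * t * x⁻¹) * x⁻¹ = t := by
      rw [h1, ← mul_assoc x, mem_center_iff.mp (hWc hw) x, show ⁅x, t⁆ * x * t * x⁻¹ = ⁅x, t⁆ * (x * t * x⁻¹) by
        simp only [mul_assoc], h1, ← mul_assoc, hWe _ hw, one_mul]
    calc t * (x * x) = x * (x * t * x⁻¹) * x⁻¹ * (x * x) := by rw [h2]
      _ = x * x * t := by group
  -- exponent at least four
  set k := 2 ^ m with hk
  have hpow2 : ∀ d : X, d ^ 2 ^ (m + 1) = (d ^ k) * (d ^ k) := fun d => by
    rw [← pow_add, hk, ← two_mul, ← pow_succ']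
  have hWsq : ∀ w ∈ S.W, ∃ u ∈ D, u * u = w ∧ u ^ 4 = 1 := fun w hw => by
    obtain ⟨d, hd, he⟩ := hπex w hw
    refine ⟨d ^ k, pow_mem hd _, by rw [← hpow2]; exact he, ?_⟩
    rw [show (4 : ℕ) = 2 * 2 from rfl, pow_mul, pow_two, pow_two, ← hpow2, he, hWe w hw]
  have hπker : ∀ d ∈ D, d ^ 2 ^ (m + 1) = 1 → ∃ e ∈ D, e * e = d := by
    intro d hd h
    -- the kernel of `π` consists of squares
    let sq : D →* D := MonoidHom.mk' (fun d => ⟨(d : X) * d, mul_mem d.2 d.2⟩) fun a b => Subtype.ext (by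
      have := hmulD a a.2 b b.2 2
      simpa [pow_two] using this)
    have hle : sq.range ≤ π.ker := by
      rintro _ ⟨e, rfl⟩
      refine Subtype.ext ?_
      show ((e : X) * e) ^ 2 ^ (m + 1) = 1
      rw [← pow_two, ← pow_mul, ← pow_succ']; exact hm e e.2
    have hker : Nat.card sq.ker ≤ 4 := by
      rw [← S.hW4]
      exact Nat.card_le_card_of_injective (fun e => (⟨(e : D), hΩ _ (e : D).2 (congrArg Subtype.val e.2)⟩ : S.W))
        fun a b he => Subtype.ext (Subtype.ext (congrArg Subtype.val he : _))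
    have heq : sq.range = π.ker := by
      refine eq_of_le_of_card_ge hle ?_
      have h1 := sq.ker.card_mul_index
      have h2 := π.ker.card_mul_index
      rw [index_ker] at h1 h2
      rw [MonoidHom.range_eq_top.mpr hπsurj, card_top, S.hW4, ← h1] at h2
      have h3 : Nat.card π.ker * 4 ≤ 4 * Nat.card sq.range := h2.le.trans (Nat.mul_le_mul_right _ hker)
      rw [mul_comm] at h3
      exact Nat.le_of_mul_le_mul_left h3 (by norm_num)
    obtain ⟨e, he⟩ := heq.ge (show (⟨d, hd⟩ : D) ∈ π.ker from Subtype.ext h)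
    exact ⟨e, e.2, congrArg Subtype.val he⟩
  have hπW : ∀ w ∈ S.W, w ^ 2 ^ (m + 1) = 1 := fun w hw => by
    rw [pow_succ', pow_mul, pow_two, hWe w hw, one_pow]
  have hπconj : ∀ x d : X, d ∈ D → (x * d * x⁻¹) ^ 2 ^ (m + 1) = d ^ 2 ^ (m + 1) := fun x d hd => by
    rw [conj_pow, mem_center_iff.mp (hWc (hπmem d hd)) x, mul_inv_cancel_right]
  have hcD : ∀ x d : X, d ∈ D → ⁅x, d⁆ ∈ D := fun x d hd => by
    rw [commutatorElement_def]; exact mul_mem (hDn.conj_mem d hd x) (inv_mem hd)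
  have hgpi : ∀ x d : X, d ∈ D → ⁅x, d⁆ ^ 2 ^ (m + 1) = 1 := fun x d hd => by
    rw [commutatorElement_def, hmulD _ (hDn.conj_mem d hd x) _ (inv_mem hd), hπconj x d hd, inv_pow,
      mul_inv_cancel]
  -- self-centralizing
  have hCD : centralizer (D : Set X) ≤ D := by
    by_contra hne
    obtain ⟨x0, hx0, hx0D, hx0sq, hx0g, -, -⟩ := PGroup.exists_normal_between S.hX hne
    have hcD' : ∀ x ∈ centralizer (D : Set X), ∀ d ∈ D, d * x = x * d := fun x hx d hd =>
      mem_centralizer_iff.mp hx d hd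
    have hmulsq : ∀ x y : X, x ∈ centralizer (D : Set X) → y ∈ centralizer (D : Set X) → ⁅y, x⁆ ∈ D →
        x * y * (x * y) = x * x * (y * y) * ⁅y, x⁆ := fun x y hx hy h => by
      have h' := PGroup.mul_pow_of_commute_commutator (hcD' x hx _ h) (hcD' y hy _ h) 2
      simpa [pow_two] using h'
    let B : Subgroup X :=
      { carrier := {x | x ∈ centralizer (D : Set X) ∧ (∀ g, ⁅g, x⁆ ∈ D) ∧ x * x ∈ D}
        one_mem' := ⟨one_mem _, fun g => by simp, by simp⟩
        mul_mem' := fun {x y} hx hy => ⟨mul_mem hx.1 hy.1, fun g => by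
            rw [commutatorElement_mul_right_eq_mul_conj, mul_assoc ⁅g, x⁆ x,
              ← hcD' x hx.1 _ (hy.2.1 g)]
            simp only [mul_assoc, mul_inv_cancel, mul_one]
            exact mul_mem (hx.2.1 g) (hy.2.1 g),
          by rw [hmulsq x y hx.1 hy.1 (hx.2.1 y)]; exact mul_mem (mul_mem hx.2.2 hy.2.2) (hx.2.1 y)⟩
        inv_mem' := fun {x} hx => ⟨inv_mem hx.1, fun g => by
            have e : ⁅g, x⁻¹⁆ = x⁻¹ * ⁅g, x⁆⁻¹ * x := by simp [commutatorElement_def, mul_assoc]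
            rw [e, ← hcD' _ (inv_mem hx.1) _ (inv_mem (hx.2.1 g)), mul_assoc, inv_mul_cancel, mul_one]
            exact inv_mem (hx.2.1 g),
          by rw [← mul_inv_rev]; exact inv_mem hx.2.2⟩ }
    have hDB : D ≤ B := fun d hd => ⟨mem_centralizer_iff.mpr fun e he => hcomm e he d hd,
      fun g => hcD g d hd, mul_mem hd hd⟩
    have hBn : B.Normal := PGroup.normal_of_comm_mem hDB fun g x hx => hx.2.1 g
    have hBA : ∀ φ ∈ S.A, ∀ x ∈ B, φ x ∈ B := by
      intro φ hφ x hx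
      have hDs : ∀ d ∈ D, φ.symm d ∈ D := hDA φ.symm (inv_mem hφ)
      refine ⟨mem_centralizer_iff.mpr fun d hd => ?_, fun g => ?_, by rw [← map_mul]; exact hDA φ hφ _ hx.2.2⟩
      · have h := congrArg φ (hcD' x hx.1 _ (hDs d hd))
        rwa [map_mul, map_mul, MulEquiv.apply_symm_apply] at h
      · have h := hDA φ hφ _ (hx.2.1 (φ.symm g))
        rwa [map_commutatorElement, MulEquiv.apply_symm_apply] at h
    have hBW : ∀ x ∈ B, ∀ y ∈ B, ⁅x, y⁆ ∈ S.W := fun x hx y hy => hΩ _ (hy.2.1 x) (by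
      have hc : Commute ⁅x, y⁆ x := hcD' x hx.1 _ (hy.2.1 x)
      rw [← pow_two, ← PGroup.commutatorElement_pow_left hc 2, pow_two,
        commutatorElement_eq_one_iff_mul_comm]
      exact hcD' y hy.1 _ hx.2.2)
    let θ : B →* S.W := MonoidHom.mk'
      (fun x => ⟨((x : X) * x) ^ 2 ^ (m + 1), hπmem _ x.2.2.2⟩) fun x y => Subtype.ext (by
        show ((x : X) * y * ((x : X) * y)) ^ 2 ^ (m + 1) = ((x : X) * x) ^ 2 ^ (m + 1) * ((y : X) * y) ^ 2 ^ (m + 1)
        rw [hmulsq _ _ x.2.1 y.2.1 (x.2.2.1 y), hmulD _ (mul_mem x.2.2.2 y.2.2.2) _ (x.2.2.1 y),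
          hmulD _ x.2.2.2 _ y.2.2.2, hπW _ (hBW y y.2 x x.2), mul_one])
    have hθker : ∀ x : B, θ x = 1 → (x : X) ∈ D := by
      intro x hx
      obtain ⟨e, he, hee⟩ := hπker _ x.2.2.2 (congrArg Subtype.val hx)
      set i := (x : X) * e⁻¹ with hi
      have hxe : (x : X) * e = e * x := (hcD' x x.2.1 e he).symm
      have hie : i * i = 1 := by
        have h1 : e⁻¹ * (x : X) = x * e⁻¹ := hcD' x x.2.1 _ (inv_mem he)
        calc i * i = (x : X) * (e⁻¹ * x) * e⁻¹ := by rw [hi]; simp only [mul_assoc]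
          _ = (x : X) * x * (e⁻¹ * e⁻¹) := by rw [h1]; simp only [mul_assoc]
          _ = 1 := by rw [← hee]; group
      have hiB : i ∈ B := mul_mem x.2 (inv_mem (hDB he))
      have hig : ∀ g : X, ⁅g, i⁆ ∈ D := hiB.2.1
      have hn : (D ⊔ zpowers i).Normal := by
        refine PGroup.normal_of_comm_mem (A := D) le_sup_left fun g b hb => ?_
        exact ((sup_le hDB (zpowers_le.mpr hiB)) hb).2.1 g
      have := hinvol _ hn (PGroup.isMulCommutative_sup_zpowers hDc hiB.1) i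
        (mem_sup_right (mem_zpowers i)) hie
      rw [show (x : X) = i * e by rw [hi]; group]
      exact mul_mem (hWD this) he
    have hBab : IsMulCommutative B := by
      refine ⟨⟨fun x y => Subtype.ext (commutatorElement_eq_one_iff_mul_comm.mp ?_)⟩⟩
      have hD1 : ∀ (d : X), d ∈ D → ∀ y ∈ B, ⁅d, y⁆ = 1 := fun d hd y hy =>
        commutatorElement_eq_one_iff_mul_comm.mpr (hcD' y hy.1 d hd)
      have hbil : ∀ x y z : B, ⁅((x * y : B) : X), (z : X)⁆ = ⁅(x : X), (z : X)⁆ * ⁅(y : X), (z : X)⁆ :=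
        fun x y z => PGroup.commutatorElement_mul_left_of_mem_center (hWc (hBW y y.2 z z.2))
      have hbil' : ∀ x y z : B, ⁅(x : X), ((y * z : B) : X)⁆ = ⁅(x : X), (y : X)⁆ * ⁅(x : X), (z : X)⁆ :=
        fun x y z => PGroup.commutatorElement_mul_right_of_mem_center (hWc (hBW x x.2 z z.2))
      -- commutators depend on the values of `θ` only
      have hdep : ∀ x y : B, θ x = θ y → ∀ z : B, ⁅(x : X), (z : X)⁆ = ⁅(y : X), (z : X)⁆ ∧
          ⁅(z : X), (x : X)⁆ = ⁅(z : X), (y : X)⁆ := by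
        intro x y hxy z
        have hd : ((x * y⁻¹ : B) : X) ∈ D := hθker _ (by rw [map_mul, map_inv, hxy, mul_inv_cancel])
        have e : x = x * y⁻¹ * y := by group
        have hl : ⁅(x : X), (z : X)⁆ = ⁅(y : X), (z : X)⁆ := by
          conv_lhs => rw [e]
          rw [hbil, hD1 _ hd _ z.2, one_mul]
        exact ⟨hl, by rw [← commutatorElement_inv (x : X), hl, commutatorElement_inv]⟩
      by_cases hθs : ∃ p q : B, θ p ≠ 1 ∧ θ q ≠ 1 ∧ θ p ≠ θ q
      · obtain ⟨p, q, hp, hq, hpq⟩ := hθs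
        obtain ⟨e, he1, he2, h0, hadd⟩ := exists_equiv S.W S.hW4 S.wsq hp hq hpq
        set c := ⁅(p : X), (q : X)⁆ with hc
        have hcW : c ∈ S.W := hBW p p.2 q q.2
        have hvals : ∀ x y : B, ⁅(x : X), (y : X)⁆ = 1 ∨ ⁅(x : X), (y : X)⁆ = c := by
          intro x y
          have hqp : ⁅(q : X), (p : X)⁆ = c := by
            rw [← commutatorElement_inv (p : X)]; exact inv_eq_of_mul_eq_one_left (hWe c hcW)
          have hone : ∀ y : B, ⁅((1 : B) : X), (y : X)⁆ = 1 ∧ ⁅(y : X), ((1 : B) : X)⁆ = 1 := fun y => by simp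
          have hpqp : ⁅((p * q : B) : X), (p : X)⁆ = c := by rw [hbil, commutatorElement_self, one_mul, hqp]
          have hpqq : ⁅((p * q : B) : X), (q : X)⁆ = c := by rw [hbil, commutatorElement_self, mul_one]
          have hppq : ⁅(p : X), ((p * q : B) : X)⁆ = c := by rw [hbil', commutatorElement_self, one_mul]
          have hqpq : ⁅(q : X), ((p * q : B) : X)⁆ = c := by rw [hbil', commutatorElement_self, mul_one, hqp]
          have hall : ∀ v : V2, v = 0 ∨ v = (1, 0) ∨ v = (0, 1) ∨ v = (1, 0) + (0, 1) := by decide +revert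
          have hrep : ∀ x : B, θ x = θ 1 ∨ θ x = θ p ∨ θ x = θ q ∨ θ x = θ (p * q) := by
            intro x
            obtain ⟨v, hv⟩ := e.surjective (θ x)
            rcases hall v with rfl | rfl | rfl | rfl
            · exact Or.inl (by rw [map_one, ← hv, h0])
            · exact Or.inr (Or.inl (by rw [← hv, he1]))
            · exact Or.inr (Or.inr (Or.inl (by rw [← hv, he2])))
            · exact Or.inr (Or.inr (Or.inr (by rw [map_mul, ← hv, hadd, he1, he2])))
          rcases hrep x with h | h | h | h <;> rcases hrep y with h' | h' | h' | h' <;>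
            rw [(hdep _ _ h y).1, (hdep _ _ h' _).2] <;>
            first
              | exact Or.inl (hone _).1
              | exact Or.inl (hone _).2
              | exact Or.inl (commutatorElement_self _)
              | exact Or.inr hqp
              | exact Or.inr hc.symm
              | exact Or.inr hpqp
              | exact Or.inr hpqq
              | exact Or.inr hppq
              | exact Or.inr hqpq
        have hac : S.a c = 1 ∨ S.a c = c := by
          rw [hc, map_commutatorElement]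
          exact hvals ⟨_, hBA S.a S.haA p p.2⟩ ⟨_, hBA S.a S.haA q q.2⟩
        have hc1 : c = 1 := hac.elim (fun h => S.a.injective (h.trans (map_one _).symm)) (S.hfree c hcW)
        exact (hvals x y).elim id fun h => h.trans hc1
      · push Not at hθs
        by_cases hx : θ x = 1
        · rw [(hdep x 1 (by rw [map_one, hx]) y).1]; simp
        by_cases hy : θ y = 1
        · rw [(hdep y 1 (by rw [map_one, hy]) x).2]; simp
        · rw [(hdep x y (hθs x y hx hy) y).1, commutatorElement_self]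
    have := hDmax B hBn hBab hDB hBA
    exact hx0D (this ▸ ⟨hx0, hx0g, pow_two x0 ▸ hx0sq⟩)
  -- elements of order at most four
  have hΩ2 : ∀ d ∈ D, d ^ 4 = 1 → d * d ∈ S.W := fun d hd h4 => hΩ _ (mul_mem hd hd) (by
    rw [← h4, show (4 : ℕ) = 2 * 2 from rfl, pow_mul, pow_two, pow_two])
  have hgW : ∀ x d : X, d ∈ D → d ^ 4 = 1 → ⁅x, d⁆ ∈ S.W := fun x d hd h4 => hΩ _ (hcD x d hd) (by
    rw [← pow_two, commutatorElement_def, hmulD _ (hDn.conj_mem d hd x) _ (inv_mem hd), conj_pow,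
      inv_pow, pow_two, mem_center_iff.mp (hWc (hΩ2 d hd h4)) x, mul_inv_cancel_right, mul_inv_cancel])
  have hgl : ∀ (x d e : X), d ∈ D → e ∈ D → ⁅x, d * e⁆ = ⁅x, d⁆ * ⁅x, e⁆ := fun x d e hd he => by
    have h1 : d * ⁅x, e⁆ = ⁅x, e⁆ * d := hcomm d hd _ (hcD x e he)
    rw [commutatorElement_mul_right_eq_mul_conj, mul_assoc ⁅x, d⁆ d, h1]
    simp only [mul_assoc, mul_inv_cancel, mul_one]
  have hgpow : ∀ (x d : X) (n : ℕ), d ∈ D → ⁅x, d ^ n⁆ = ⁅x, d⁆ ^ n := fun x d n hd => by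
    induction n with
    | zero => simp
    | succ n ih => rw [pow_succ, hgl x _ _ (pow_mem hd n) hd, ih, pow_succ]
  have hgx : ∀ (x y d : X), d ∈ D → ⁅y, d⁆ ∈ S.W → ⁅x * y, d⁆ = ⁅x, d⁆ * ⁅y, d⁆ := fun x y d _ h =>
    PGroup.commutatorElement_mul_left_of_mem_center (hWc h)
  choose sec hsecD hsecsq hsec4 using hWsq
  have hsecE : ∀ (x d : X) (hd : d ∈ D) (h4 : d ^ 4 = 1),
      ⁅x, sec (d * d) (hΩ2 d hd h4)⁆ = ⁅x, d⁆ := by
    intro x d hd h4
    set u := sec (d * d) (hΩ2 d hd h4)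
    have hu : u ∈ D := hsecD _ _
    have h1 : u * d⁻¹ ∈ S.W := hΩ _ (mul_mem hu (inv_mem hd)) (by
      rw [← pow_two, hmulD _ hu _ (inv_mem hd), pow_two, pow_two, hsecsq _ (hΩ2 d hd h4)]; group)
    rw [show u = u * d⁻¹ * d by group, hgl x _ _ (mul_mem hu (inv_mem hd)) hd,
      commutatorElement_eq_one_iff_mul_comm.mpr (mem_center_iff.mp (hWc h1) x), one_mul]
  -- the first layer
  let F : X → (S.W →* S.W) := fun x => MonoidHom.mk'
    (fun w => ⟨⁅x, sec w w.2⁆, hgW x _ (hsecD _ _) (hsec4 _ _)⟩) fun a b => Subtype.ext (by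
      show ⁅x, sec ((a : X) * b) _⁆ = ⁅x, sec a a.2⁆ * ⁅x, sec b b.2⁆
      have hd : sec (a : X) a.2 * sec (b : X) b.2 ∈ D := mul_mem (hsecD _ _) (hsecD _ _)
      have h4 : (sec (a : X) a.2 * sec (b : X) b.2) ^ 4 = 1 := by
        rw [hmulD _ (hsecD _ _) _ (hsecD _ _), hsec4, hsec4, one_mul]
      rw [← hgl x _ _ (hsecD _ _) (hsecD _ _), ← hsecE x _ hd h4]
      congr 2
      rw [← pow_two, hmulD _ (hsecD _ _) _ (hsecD _ _), pow_two, pow_two, hsecsq, hsecsq])
  have hF : ∀ (x d : X) (hd : d ∈ D) (h4 : d ^ 4 = 1),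
      ((F x ⟨d * d, hΩ2 d hd h4⟩ : S.W) : X) = ⁅x, d⁆ := fun x d hd h4 => hsecE x d hd h4
  have hFmul : ∀ x y w, F (x * y) w = F x w * F y w := fun x y w => Subtype.ext
    (hgx x y _ (hsecD _ _) (hgW y _ (hsecD _ _) (hsec4 _ _)))
  have hFone : ∀ x : X, (∀ w, F x w = 1) → ∀ d ∈ D, d ^ 4 = 1 → ⁅x, d⁆ = 1 := fun x hx d hd h4 => by
    rw [← hF x d hd h4, hx]; rfl
  have hFsq : ∀ x w, F (x * x) w = 1 := fun x w => by rw [hFmul]; exact S.wsq _
  have hFequiv : ∀ φ ∈ S.A, ∀ (x : X) (w : S.W),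
      ((F (φ x) w : S.W) : X) = φ (F x ⟨φ.symm w, S.map_W w.2⟩ : S.W) := by
    intro φ hφ x w
    have hd : φ (sec (φ.symm w) (S.map_W w.2)) ∈ D := hDA φ hφ _ (hsecD _ _)
    have h4 : φ (sec (φ.symm w) (S.map_W w.2)) ^ 4 = 1 := by rw [← map_pow, hsec4, map_one]
    have hsq : φ (sec (φ.symm w) (S.map_W w.2)) * φ (sec (φ.symm w) (S.map_W w.2)) = w := by
      rw [← map_mul, hsecsq, MulEquiv.apply_symm_apply]
    have h1 := hF (φ x) _ hd h4
    simp only [hsq, ← map_commutatorElement] at h1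
    exact h1
  let c : (S.W →* S.W) → S.W → S.W := fun f w => S.aW (f (S.aW.symm w))
  have hFa : ∀ x w, F (S.a x) w = S.aW (F x (S.aW.symm w)) := fun x w =>
    Subtype.ext (hFequiv S.a S.haA x w)
  have hWcomm : ∀ a b : S.W, a * b = b * a := comm_of_sq S.wsq
  have hrange : ∀ x, ∃ y, ∀ w, F x w = F (y * S.a y) w := by
    let R : Subgroup X :=
      { carrier := {x | ∃ y, ∀ w, F x w = F (y * S.a y) w}
        one_mem' := ⟨1, fun w => by simp⟩
        mul_mem' := fun {u v} ⟨y, hy⟩ ⟨z, hz⟩ => ⟨y * z, fun w => by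
          rw [map_mul, hFmul, hy, hz, hFmul, hFmul, hFmul, hFmul, hFmul]
          simp only [mul_assoc]
          congr 1
          rw [← mul_assoc, hWcomm (F (S.a y) w) (F z w), mul_assoc]⟩
        inv_mem' := fun {u} ⟨y, hy⟩ => ⟨y, fun w => by
          rw [← hy]
          have h1 : F u⁻¹ w * F u w = 1 := by
            rw [← hFmul, inv_mul_cancel]
            exact Subtype.ext (commutatorElement_one_left _)
          rw [eq_inv_of_mul_eq_one_left h1, inv_eq_of_mul_eq_one_left (S.wsq (F u w))]⟩ }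
    have htop : (⊤ : Subgroup X) ≤ R := by
      rw [← S.hgen, closure_le]
      rintro _ ⟨φ, hφ, x, rfl⟩
      obtain ⟨i, hi, hiw⟩ := S.hA φ hφ
      have hFinv : ∀ u w, F u⁻¹ w = F u w := fun u w => by
        have h1 : F u⁻¹ w * F u w = 1 := by
          rw [← hFmul, inv_mul_cancel]
          exact Subtype.ext (commutatorElement_one_left _)
        rw [eq_inv_of_mul_eq_one_left h1, inv_eq_of_mul_eq_one_left (S.wsq (F u w))]
      have hsym : ∀ w ∈ S.W, φ.symm w = (S.a ^ i).symm w := fun w hw => by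
        rw [MulEquiv.symm_apply_eq, hiw _ (S.map_W hw), MulEquiv.apply_symm_apply]
      have hFφ : ∀ w, F (φ x) w = F ((S.a ^ i) x) w := fun w => Subtype.ext (by
        rw [hFequiv φ hφ, hFequiv (S.a ^ i) (pow_mem S.haA i), hiw _ (SetLike.coe_mem _)]
        congr 3
        exact Subtype.ext (hsym w w.2))
      interval_cases i
      · refine ⟨1, fun w => ?_⟩
        rw [hFmul, hFinv, hFφ, pow_zero, MulAut.one_apply, S.wsq]
        simp only [map_one, mul_one]
        exact (Subtype.ext (commutatorElement_one_left _)).symm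
      · exact ⟨x, fun w => by rw [hFmul, hFinv, hFφ, pow_one, hFmul]⟩
      · refine ⟨x * S.a x, fun w => ?_⟩
        rw [hFmul, hFinv, hFφ, map_mul, hFmul, hFmul, hFmul,
          show (S.a ^ 2) x = S.a (S.a x) by rw [pow_two]; rfl]
        calc F x w * F (S.a (S.a x)) w
            = F x w * (F (S.a x) w * F (S.a x) w) * F (S.a (S.a x)) w := by rw [S.wsq, mul_one]
          _ = F x w * F (S.a x) w * (F (S.a x) w * F (S.a (S.a x)) w) := by simp only [mul_assoc]
    exact fun x => htop (mem_top x)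
  have hK2 : ∀ x : X, x ∉ D → ¬ ∀ w, F x w = 1 := by
    intro x hxD hx
    rcases m with _ | m
    · apply hxD
      refine hCD (mem_centralizer_iff.mpr fun d hd => ?_)
      exact (commutatorElement_eq_one_iff_mul_comm.mp (hFone x hx d hd (by simpa using hm d hd))).symm
    -- exponent at least eight
    have hk2 : k = 2 * 2 ^ m := by rw [hk, pow_succ']
    have hroot4 : ∀ y ∈ D, y ^ k = 1 → ∃ e ∈ D, e ^ 4 = y := by
      intro y hy h
      obtain ⟨e1, he1, hee⟩ := hπker y hy (by rw [hpow2, h, one_mul])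
      obtain ⟨e, he, hee'⟩ := hπker e1 he1 (by
        rw [hpow2, ← (Commute.refl e1).mul_pow, hee]; exact h)
      exact ⟨e, he, by rw [show (4 : ℕ) = 2 * 2 from rfl, pow_mul, pow_two, pow_two, hee', hee]⟩
    have hK : ∀ y : X, (∀ w, F y w = 1) → ∀ d ∈ D, ∃ e ∈ D, e ^ 4 = ⁅y, d⁆ := fun y hy d hd =>
      hroot4 _ (hcD y d hd) (by
        rw [← hgpow y d k hd]
        refine hFone y hy _ (pow_mem hd _) ?_
        rw [← pow_mul, show k * 4 = 2 ^ (m + 1 + 1 + 1) by rw [hk2]; ring]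
        exact hm d hd)
    -- an element acting inside `W`
    have hexN : ∃ n, ∃ y, y ∉ D ∧ (∀ w, F y w = 1) ∧ ∀ d ∈ D, ⁅y, d⁆ ^ 2 ^ n = 1 :=
      ⟨m + 1 + 1 + 1, x, hxD, hx, fun d hd => hm _ (hcD x d hd)⟩
    obtain ⟨y, hyD, hy, hyn⟩ := Nat.find_spec hexN
    have hyW : ∀ d ∈ D, ⁅y, d⁆ ∈ S.W := by
      intro d hd
      refine hΩ _ (hcD y d hd) ?_
      rw [← pow_two]
      by_cases hn1 : Nat.find hexN ≤ 1
      · rcases (show Nat.find hexN = 0 ∨ Nat.find hexN = 1 by omega) with h | h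
        · have := hyn d hd
          rw [h, pow_zero, pow_one] at this
          rw [this, one_pow]
        · have := hyn d hd
          rwa [h, pow_one] at this
      exfalso
      obtain ⟨n, hn⟩ : ∃ n, Nat.find hexN = n + 1 + 1 := ⟨Nat.find hexN - 2, by omega⟩
      rw [hn] at hyn
      have hg2 : ∀ d ∈ D, ∃ e ∈ D, ⁅y * y, d⁆ = ⁅y, e⁆ ^ 4 * ⁅y, d⁆ ^ 2 := by
        intro d hd
        obtain ⟨e, he, hee⟩ := hK y hy d hd
        refine ⟨e, he, ?_⟩
        rw [commutatorElement_mul_left_eq_conj_mul, ← hgpow y e 4 he, hee, pow_two]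
        rw [show y * ⁅y, d⁆ * y⁻¹ = ⁅y, ⁅y, d⁆⁆ * ⁅y, d⁆ by
          rw [commutatorElement_def y ⁅y, d⁆]; group, mul_assoc]
      by_cases hyy : y * y ∈ D
      · -- the values would be infinitely divisible
        have hzero : ∀ d ∈ D, ⁅y * y, d⁆ = 1 := fun d hd =>
          commutatorElement_eq_one_iff_mul_comm.mpr (hcomm _ hyy _ hd)
        have hdiv : ∀ j : ℕ, ∀ d ∈ D, ∃ u ∈ D, ⁅y, d⁆ ^ 2 = u ^ 2 ^ j := by
          intro j
          induction j with
          | zero => exact fun d hd => ⟨⁅y, d⁆ ^ 2, pow_mem (hcD y d hd) 2, by simp⟩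
          | succ j ih =>
            intro d hd
            obtain ⟨e, he, hg⟩ := hg2 d hd
            rw [hzero d hd] at hg
            obtain ⟨u, hu, huu⟩ := ih e he
            refine ⟨u⁻¹, inv_mem hu, ?_⟩
            rw [eq_inv_of_mul_eq_one_right hg.symm, show (4 : ℕ) = 2 * 2 from rfl, pow_mul, huu,
              ← pow_mul, ← pow_succ, inv_pow]
        refine Nat.find_min hexN (show 1 < Nat.find hexN by omega) ⟨y, hyD, hy, fun e he => ?_⟩
        obtain ⟨u, hu, huu⟩ := hdiv (m + 1 + 1 + 1) e he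
        rw [pow_one, huu]; exact hm u hu
      · refine Nat.find_min hexN (show n + 1 < Nat.find hexN by omega) ⟨y * y, hyy, hFsq y, fun e he => ?_⟩
        obtain ⟨e', he', hg⟩ := hg2 e he
        rw [hg, hmulD _ (pow_mem (hcD y e' he') 4) _ (pow_mem (hcD y e he) 2), ← pow_mul, ← pow_mul,
          ← pow_succ', hyn e he, show 4 * 2 ^ (n + 1) = 2 ^ (n + 1 + 1) * 2 by ring, pow_mul,
          hyn e' he', one_pow, mul_one]
    -- the bottom layer
    let π' : X → Prop := fun z => ∀ d ∈ D, ⁅z, d⁆ ∈ S.W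
    choose secp hsecpD hsecp using hπex
    have hHkey : ∀ z, π' z → ∀ (d : X) (hd : d ∈ D), ⁅z, secp (d ^ 2 ^ (m + 1 + 1)) (hπmem d hd)⁆ = ⁅z, d⁆ := by
      intro z hz d hd
      set u := secp (d ^ 2 ^ (m + 1 + 1)) (hπmem d hd)
      have hu : u ∈ D := hsecpD _ _
      obtain ⟨e, he, hee⟩ := hπker (u * d⁻¹) (mul_mem hu (inv_mem hd)) (by
        rw [hmulD _ hu _ (inv_mem hd), hsecp, inv_pow, mul_inv_cancel])
      rw [show u = e * e * d by rw [hee]; group, hgl z _ _ (mul_mem he he) hd, hgl z _ _ he he,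
        hWe _ (hz e he), one_mul]
    let H : ∀ z, π' z → (S.W →* S.W) := fun z hz => MonoidHom.mk'
      (fun w => ⟨⁅z, secp w w.2⁆, hz _ (hsecpD _ _)⟩) fun a b => Subtype.ext (by
        show ⁅z, secp ((a : X) * b) _⁆ = ⁅z, secp a a.2⁆ * ⁅z, secp b b.2⁆
        have hd : secp (a : X) a.2 * secp (b : X) b.2 ∈ D := mul_mem (hsecpD _ _) (hsecpD _ _)
        rw [← hgl z _ _ (hsecpD _ _) (hsecpD _ _), ← hHkey z hz _ hd]
        congr 2
        rw [hmulD _ (hsecpD _ _) _ (hsecpD _ _), hsecp, hsecp])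
    have hHzero : ∀ z hz, (∀ w, H z hz w = 1) → z ∈ D := fun z hz h => hCD
      (mem_centralizer_iff.mpr fun d hd => (commutatorElement_eq_one_iff_mul_comm.mp
        ((hHkey z hz d hd).symm.trans (congrArg Subtype.val (h ⟨_, hπmem d hd⟩)))).symm)
    have hay : π' (S.a y) := fun d hd => by
      have h1 : S.a.symm d ∈ D := hDA S.a.symm (inv_mem S.haA) d hd
      have h := S.map_W (φ := S.a) (hyW _ h1)
      rwa [map_commutatorElement, MulEquiv.apply_symm_apply] at h
    have hyay : π' (y * S.a y) := fun d hd => by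
      rw [hgx _ _ d hd (hay d hd)]; exact mul_mem (hyW d hd) (hay d hd)
    have hHa : ∀ w, H (S.a y) hay w = S.aW (H y hyW (S.aW.symm w)) := fun w => Subtype.ext (by
      show ⁅S.a y, secp (w : X) w.2⁆ = S.a ⁅y, secp (S.a.symm w) _⁆
      have hd : S.a (secp (S.a.symm w) (S.map_W w.2)) ∈ D := haD _ (hsecpD _ _)
      rw [map_commutatorElement, ← hHkey (S.a y) hay _ hd]
      congr 2
      rw [← map_pow, hsecp, MulEquiv.apply_symm_apply])
    obtain ⟨z, hz, hzinj⟩ : ∃ z, ∃ hz : π' z, ∀ w, H z hz w = 1 → w = 1 := by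
      rcases inj_or_sum_inj S.aW S.hW4 S.wsq S.aW_free (H y hyW) with h | h | h
      · exact ⟨y, hyW, h⟩
      · exact absurd (hHzero y hyW h) hyD
      · refine ⟨y * S.a y, hyay, fun w hw => h w ?_⟩
        rw [← hHa, ← hw]
        exact Subtype.ext (hgx _ _ _ (hsecpD _ _) (hay _ (hsecpD _ _))).symm
    have hzinj' : ∀ d ∈ D, ⁅z, d⁆ = 1 → d ^ 2 ^ (m + 1 + 1) = 1 := fun d hd h => by
      have := hzinj ⟨_, hπmem d hd⟩ (Subtype.ext ((hHkey z hz d hd).trans h))
      exact congrArg Subtype.val this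
    have hzfix : ∀ d ∈ D, d ^ 2 ^ (m + 1 + 1) = 1 → ⁅z, d⁆ = 1 := fun d hd h => by
      obtain ⟨e, he, rfl⟩ := hπker d hd h
      rw [hgl z _ _ he he, hWe _ (hz e he)]
    have hzD : z ∉ D := fun hzD => hd0' (hzinj' d0 hd0
      (commutatorElement_eq_one_iff_mul_comm.mpr (hcomm z hzD d0 hd0)))
    have hz2 : z * z ∈ D := hCD (mem_centralizer_iff.mpr fun d hd => by
      have h : ⁅z * z, d⁆ = 1 := by rw [hgx z z d hd (hz d hd), hWe _ (hz d hd)]
      exact (commutatorElement_eq_one_iff_mul_comm.mp h).symm)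
    obtain ⟨e, he, hee⟩ := hπker (z * z) hz2 (hzinj' _ hz2
      (commutatorElement_eq_one_iff_mul_comm.mpr (mul_assoc z z z).symm))
    have hw0 : ⁅z, e⁆ ∈ S.W := hz e he
    obtain ⟨u, hu, huu, hu4⟩ : ∃ u ∈ D, u * u = ⁅z, e⁆ ∧ u ^ 4 = 1 :=
      ⟨sec _ hw0, hsecD _ _, hsecsq _ _, hsec4 _ _⟩
    have hhigh : ∀ d : X, d ^ 4 = 1 → d ^ 2 ^ (m + 1 + 1) = 1 := fun d h => by
      rw [show 2 ^ (m + 1 + 1) = 4 * 2 ^ m by ring, pow_mul, h, one_pow]
    have hzu : z * u = u * z := commutatorElement_eq_one_iff_mul_comm.mp (hzfix u hu (hhigh u hu4))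
    set i := z * e⁻¹ * u with hi
    have hconj : z * e * z⁻¹ = ⁅z, e⁆ * e := by rw [commutatorElement_def]; group
    have hii : i * i = 1 := by
      have h0 : (z * e⁻¹) * (z * e⁻¹) = ⁅z, e⁆ := by
        have h1 : z * e⁻¹ * z⁻¹ = e⁻¹ * ⁅z, e⁆⁻¹ := by
          rw [show z * e⁻¹ * z⁻¹ = (z * e * z⁻¹)⁻¹ by group, hconj, mul_inv_rev]
        calc (z * e⁻¹) * (z * e⁻¹) = (z * e⁻¹ * z⁻¹) * (z * z) * e⁻¹ := by group
          _ = e⁻¹ * ⁅z, e⁆⁻¹ * e := by rw [h1, ← hee]; group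
          _ = ⁅z, e⁆ := by
            rw [mul_assoc, ← mem_center_iff.mp (hWc (inv_mem hw0)) e, inv_mul_cancel_left]
            exact inv_eq_of_mul_eq_one_left (hWe _ hw0)
      have h3 : u * (z * e⁻¹) = (z * e⁻¹) * u := by
        rw [← mul_assoc, ← hzu, mul_assoc, hcomm u hu _ (inv_mem he), ← mul_assoc]
      calc i * i = (z * e⁻¹) * (u * (z * e⁻¹)) * u := by rw [hi]; simp only [mul_assoc]
        _ = (z * e⁻¹) * (z * e⁻¹) * (u * u) := by rw [h3]; simp only [mul_assoc]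
        _ = 1 := by rw [h0, huu, hWe _ hw0]
    have hiD : i ∉ D := fun h => hzD (by
      rw [show z = i * u⁻¹ * e by rw [hi]; group]
      exact mul_mem (mul_mem h (inv_mem hu)) he)
    refine hiD (hWD (mem_of_sq_eq_one S.hs hWc S.hW4 hWe hii fun g => ?_))
    have hiact : ∀ d ∈ D, ⁅i, d⁆ = ⁅z, d⁆ := fun d hd => by
      have h1 : ⁅e⁻¹ * u, d⁆ = 1 :=
        commutatorElement_eq_one_iff_mul_comm.mpr (hcomm _ (mul_mem (inv_mem he) hu) _ hd)
      rw [hi, mul_assoc, hgx _ _ d hd (by rw [h1]; exact one_mem _), h1, mul_one]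
    have hcdD : ⁅g, i⁆ ∈ D := by
      refine hCD (mem_centralizer_iff.mpr fun d hd => (commutatorElement_eq_one_iff_mul_comm.mp ?_).symm)
      have hcj : ∀ d ∈ D, ⁅g * i * g⁻¹, d⁆ = ⁅i, d⁆ := fun d hd => by
        set d' := g⁻¹ * d * g with hd'
        have hd'D : d' ∈ D := by simpa [hd'] using hDn.conj_mem d hd g⁻¹
        rw [show ⁅g * i * g⁻¹, d⁆ = g * ⁅i, d'⁆ * g⁻¹ by rw [hd', commutatorElement_def, commutatorElement_def]; group,
          hiact d' hd'D, mem_center_iff.mp (hWc (hz d' hd'D)) g, mul_inv_cancel_right, hiact d hd,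
          ← hHkey z hz d' hd'D, ← hHkey z hz d hd]
        congr 2
        rw [hd']
        simpa using hπconj g⁻¹ d hd
      have hiinv : i⁻¹ = i := inv_eq_of_mul_eq_one_left hii
      rw [show ⁅g, i⁆ = (g * i * g⁻¹) * i⁻¹ by rw [commutatorElement_def], hiinv,
        hgx _ _ d hd (by rw [hiact d hd]; exact hz d hd), hcj d hd, hiact d hd, hWe _ (hz d hd)]
    set d := ⁅g, i⁆ with hd'
    have hgi : g * i * g⁻¹ = d * i := by rw [hd', commutatorElement_def]; group
    have hsq1 : d * i * (d * i) = 1 := by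
      rw [← hgi, show g * i * g⁻¹ * (g * i * g⁻¹) = g * (i * i) * g⁻¹ by group, hii]; group
    have h2 : d * d * ⁅i, d⁆ = 1 := by
      rw [hcomm (d * d) (mul_mem hcdD hcdD) _ (hcD i d hcdD), commutatorElement_def,
        show i⁻¹ = i from inv_eq_of_mul_eq_one_left hii]
      calc i * d * i * d⁻¹ * (d * d) = i * (d * i * (d * i)) * i⁻¹ := by group
        _ = 1 := by rw [hsq1]; group
    have hiW : ⁅i, d⁆ ∈ S.W := by rw [hiact d hcdD]; exact hz d hcdD
    have hd4 : d ^ 4 = 1 := by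
      rw [show (4 : ℕ) = 2 * 2 from rfl, pow_mul, pow_two, pow_two, eq_inv_of_mul_eq_one_left h2,
        ← mul_inv_rev, hWe _ hiW, inv_one]
    refine hΩ d hcdD ?_
    rwa [hiact d hcdD, hzfix d hcdD (hhigh d hd4), mul_one] at h2
  have hsqD : ∀ x : X, x * x ∈ D := fun x => by
    by_contra h
    exact hK2 _ h (hFsq x)
  rcases m with _ | m
  swap
  · -- the first layer would be idempotent
    exfalso
    have hidem : ∀ x w, F x (F x w) = F x w := by
      intro x w
      obtain ⟨d, hd, hdw⟩ : ∃ d ∈ D, d ^ 2 ^ (m + 1 + 1) = w := hπex w w.2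
      have hgd := hcD x d hd
      obtain ⟨e, he, hee⟩ := hπker _ hgd (hgpi x d hd)
      have h2 : ⁅x * x, d⁆ = 1 := commutatorElement_eq_one_iff_mul_comm.mpr (hcomm _ (hsqD x) _ hd)
      rw [commutatorElement_mul_left_eq_conj_mul,
        show x * ⁅x, d⁆ * x⁻¹ = ⁅x, ⁅x, d⁆⁆ * ⁅x, d⁆ by
          rw [commutatorElement_def x ⁅x, d⁆]; group, ← hee, hgl x _ _ he he, hee] at h2
      have hcom := hcomm _ (hcD x e he) _ hgd
      have h3 : (⁅x, e⁆ * ⁅x, d⁆) * (⁅x, e⁆ * ⁅x, d⁆) = 1 := by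
        rw [← h2]
        calc (⁅x, e⁆ * ⁅x, d⁆) * (⁅x, e⁆ * ⁅x, d⁆) = ⁅x, e⁆ * (⁅x, d⁆ * ⁅x, e⁆) * ⁅x, d⁆ := by
              simp only [mul_assoc]
          _ = ⁅x, e⁆ * ⁅x, e⁆ * ⁅x, d⁆ * ⁅x, d⁆ := by rw [← hcom]; simp only [mul_assoc]
      have h4 : ⁅x, e⁆ ^ k * ⁅x, d⁆ ^ k = 1 := by
        rw [← hmulD _ (hcD x e he) _ hgd, hk, show 2 ^ (m + 1) = 2 * 2 ^ m by ring, pow_mul, pow_two, h3,
          one_pow]
      have h5 : ⁅x, d⁆ ^ k * ⁅x, d⁆ ^ k = 1 := by rw [← hpow2]; exact hgpi x d hd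
      have h4' : ⁅x, e⁆ ^ k = ⁅x, d⁆ ^ k :=
        (eq_inv_of_mul_eq_one_left h4).trans (inv_eq_of_mul_eq_one_left h5)
      have key : ∀ (d : X) (hd : d ∈ D), ((F x ⟨d ^ 2 ^ (m + 1 + 1), hπmem d hd⟩ : S.W) : X) = ⁅x, d⁆ ^ k := by
        intro d hd
        have hd4 : (d ^ k) ^ 4 = 1 := by
          rw [← pow_mul, show k * 4 = 2 ^ (m + 1 + 1 + 1) by rw [hk]; ring]; exact hm d hd
        have h := hF x (d ^ k) (pow_mem hd _) hd4
        simp only [← hpow2] at h
        rw [h, hgpow x d k hd]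
      apply Subtype.ext
      have hw : w = ⟨d ^ 2 ^ (m + 1 + 1), hπmem d hd⟩ := Subtype.ext hdw.symm
      have hFw : (F x w : S.W) = ⟨e ^ 2 ^ (m + 1 + 1), hπmem e he⟩ := Subtype.ext (by
        rw [hw, key d hd, ← hee, (Commute.refl e).mul_pow, ← hpow2])
      rw [hFw, key e he, h4', ← key d hd, ← hw, hFw]
    have hall1 : ∀ x w, F x w = 1 := by
      intro x w
      obtain ⟨y, hy⟩ := hrange x
      have hcm : ∀ w, F y (F (S.a y) w) = F (S.a y) (F y w) := by
        intro w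
        have h := hidem (y * S.a y) w
        simp only [hFmul, map_mul, hidem] at h
        have h' : F y (F (S.a y) w) * F (S.a y) (F y w) = 1 := by
          generalize F y (F (S.a y) w) = q at h ⊢
          generalize F (S.a y) (F y w) = r at h ⊢
          generalize F y w = p at h ⊢
          generalize F (S.a y) w = s at h ⊢
          calc q * r = (p * p) * (q * r) * (s * s) := by rw [S.wsq, S.wsq, one_mul, mul_one]
            _ = p * (p * q * (r * s)) * s := by simp only [mul_assoc]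
            _ = p * (p * s) * s := by rw [h]
            _ = 1 := by rw [← mul_assoc, S.wsq, one_mul, S.wsq]
        exact (eq_inv_of_mul_eq_one_left h').trans (inv_eq_of_mul_eq_one_left (S.wsq _))
      have hfix := idem_conj S.aW S.hW4 S.wsq S.aW_free (F y) (hidem y) fun w => by
        rw [← hFa y w, ← hFa y (F y w)]; exact hcm w
      rw [hy, hFmul, hFa, hfix]; exact S.wsq _
    refine absurd (show (⊤ : Subgroup X) ≤ D from fun x _ => ?_) ?_
    · by_contra h; exact hK2 x h (hall1 x)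
    · intro h
      exact S.hna ⟨⟨fun g k => hcomm g (h (mem_top g)) k (h (mem_top k))⟩⟩
  intro x
  by_cases hxD : x ∈ D
  · exact hΩ2 x hxD (by simpa using hm x hxD)
  obtain ⟨y, hy⟩ := hrange x
  have hinj : ∀ w, F x w = 1 → w = 1 := by
    rcases zero_or_inj S.aW S.hW4 S.wsq S.aW_free (F y) with h | h
    · exact absurd (fun w => by rw [hy, hFmul, hFa]; exact h w) (hK2 x hxD)
    · exact fun w hw => h w (by rw [← hFa, ← hFmul, ← hy]; exact hw)
  have hd4 : (x * x) ^ 4 = 1 := by simpa using hm _ (hsqD x)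
  have h1 : F x ⟨x * x * (x * x), hΩ2 _ (hsqD x) hd4⟩ = 1 := Subtype.ext (by
    rw [hF x _ (hsqD x) hd4]
    exact commutatorElement_eq_one_iff_mul_comm.mpr (mul_assoc x x x).symm)
  exact hΩ _ (hsqD x) (congrArg Subtype.val (hinj _ h1))

end Cfsg.Agent.ClassTech.SCNFour
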