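import Cfsg.Agent.ClassTech.SCNFour.Fixed
import Cfsg.Agent.ClassTech.SCNFour.Rotating

/-!
Two-groups of SCN-rank at most two with operators of odd order.
-/

set_option autoImplicit false

namespace Cfsg.Agent.ClassTech.SCNFour

open Subgroup
open scoped commutatorElement

variable {X : Type*} [Group X] [Finite X]

theorem pow_apply_of_invol {φ : MulAut X} {x : X} (h : φ (φ x) = x) {n : ℕ} (hn : Odd n) :
    (φ ^ n) x = φ x := by
  obtain ⟨k, rfl⟩ := hn
  induction k with
  | zero => simp
  | succ k ih =>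
    rw [show 2 * (k + 1) + 1 = 2 * k + 1 + 1 + 1 by ring, pow_succ', pow_succ', MulAut.mul_apply,
      MulAut.mul_apply, ih, h]

/-- A set of at most four elements containing two fixed points is fixed by an operator of odd order. -/
theorem fix_of_small {E : Subgroup X} (hE : Nat.card E ≤ 4) {φ : MulAut X} (hφ : Odd (orderOf φ))
    (hinv : ∀ x ∈ E, φ x ∈ E) {e : X} (he : e ∈ E) (he1 : e ≠ 1) (hfe : φ e = e) :
    ∀ x ∈ E, φ x = x := by
  classical
  intro x hx
  by_contra hne
  have hx1 : x ≠ 1 := fun h => hne (by rw [h, map_one])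
  have hxe : x ≠ e := fun h => hne (by rw [h, hfe])
  have h1 : φ x ≠ 1 := fun h => hx1 (φ.injective (h.trans (map_one φ).symm))
  have h2 : φ x ≠ e := fun h => hxe (φ.injective (h.trans hfe.symm))
  by_cases h3 : φ (φ x) = x
  · have := pow_apply_of_invol h3 hφ
    rw [pow_orderOf_eq_one, MulAut.one_apply] at this
    exact hne this.symm
  have h4 : φ (φ x) ≠ 1 := fun h => h1 (φ.injective (h.trans (map_one φ).symm))
  have h5 : φ (φ x) ≠ e := fun h => h2 (φ.injective (h.trans hfe.symm))
  have h6 : φ (φ x) ≠ φ x := fun h => hne (φ.injective h)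
  haveI := Fintype.ofFinite E
  let f : Fin 5 → E := ![1, ⟨e, he⟩, ⟨x, hx⟩, ⟨φ x, hinv x hx⟩, ⟨φ (φ x), hinv _ (hinv x hx)⟩]
  have hf : Function.Injective f := by
    intro i j hij
    have h : (f i : X) = f j := congrArg Subtype.val hij
    fin_cases i <;> fin_cases j <;>
      simp [f, he1, he1.symm, hx1, hx1.symm, hxe, hxe.symm, h1, h1.symm, h2, h2.symm, hne, Ne.symm hne,
        h3, Ne.symm h3, h4, h4.symm, h5, h5.symm, h6, h6.symm] at h ⊢
  have := Nat.card_le_card_of_injective f hf
  rw [Nat.card_fin] at this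
  omega

/-- An operator of odd order centralizing the involutions of an abelian invariant subgroup of a
two-group centralizes that subgroup. -/
theorem fix_abelian (hX : IsPGroup 2 X) {H : Subgroup X} (hHc : IsMulCommutative H) {φ : MulAut X}
    (hφ : Odd (orderOf φ)) (hinv : ∀ x ∈ H, φ x ∈ H) (h2 : ∀ x ∈ H, x * x = 1 → φ x = x) :
    ∀ x ∈ H, φ x = x := by
  have hn : ∀ n : ℕ, ∀ x ∈ H, x ^ 2 ^ n = 1 → φ x = x := by
    intro n
    induction n with
    | zero => intro x _ h; rw [pow_zero, pow_one] at h; rw [h, map_one]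
    | succ n ih =>
      intro x hx h
      have hsq : φ (x * x) = x * x := ih _ (mul_mem hx hx) (by rwa [← pow_two, ← pow_mul, ← pow_succ'])
      set c := x⁻¹ * φ x with hc
      have hcH : c ∈ H := mul_mem (inv_mem hx) (hinv x hx)
      have hcm : x⁻¹ * φ x = φ x * x⁻¹ := congrArg Subtype.val
        (hHc.is_comm.comm (⟨x⁻¹, inv_mem hx⟩ : H) ⟨φ x, hinv x hx⟩)
      have hc2 : c * c = 1 := by
        calc c * c = x⁻¹ * (φ x * x⁻¹) * φ x := by rw [hc]; simp only [mul_assoc]
          _ = (x * x)⁻¹ * φ (x * x) := by rw [← hcm, map_mul, mul_inv_rev]; simp only [mul_assoc]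
          _ = 1 := by rw [hsq, inv_mul_cancel]
      have hfc := h2 c hcH hc2
      have hx' : φ x = x * c := by rw [hc, mul_inv_cancel_left]
      have hit : ∀ k : ℕ, (φ ^ k) x = x * c ^ k := by
        intro k
        induction k with
        | zero => simp
        | succ k ihk => rw [pow_succ', MulAut.mul_apply, ihk, map_mul, map_pow, hfc, hx', mul_assoc,
            ← pow_succ']
      have h1 := hit (orderOf φ)
      rw [pow_orderOf_eq_one, MulAut.one_apply] at h1
      rw [hx', eq_one_of_odd_pow hc2 hφ (mul_left_cancel (a := x) (by rw [← h1, mul_one])), mul_one]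
  intro x hx
  obtain ⟨n, hn'⟩ := hX x
  exact hn n x hx hn'

/-- In class two a pair of generators modulo the centre controls the derived subgroup. -/
theorem commutator_le_zpowers (hcl : commutator X ≤ center X) {Z : Subgroup X} (hZ : Z ≤ center X)
    {u v : X} (htop : Z ⊔ zpowers u ⊔ zpowers v = ⊤) : commutator X ≤ zpowers ⁅u, v⁆ := by
  let T : Subgroup X :=
    { carrier := {x | ⁅x, u⁆ ∈ zpowers ⁅u, v⁆ ∧ ⁅x, v⁆ ∈ zpowers ⁅u, v⁆}
      one_mem' := by simp
      mul_mem' := fun {a b} ha hb => by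
        simp only [Set.mem_ofPred_eq, PGroup.comm_mul_left hcl]
        exact ⟨mul_mem ha.1 hb.1, mul_mem ha.2 hb.2⟩
      inv_mem' := fun {a} ha => by
        simp only [Set.mem_ofPred_eq, PGroup.comm_inv_left hcl]
        exact ⟨inv_mem ha.1, inv_mem ha.2⟩ }
  have hT : ∀ x, x ∈ T := fun x => by
    refine (sup_le (sup_le (fun c hc => ?_) (zpowers_le.mpr ?_)) (zpowers_le.mpr ?_) :
      Z ⊔ zpowers u ⊔ zpowers v ≤ T) (htop.ge (mem_top x))
    · refine ⟨?_, ?_⟩ <;>
        rw [commutatorElement_eq_one_iff_mul_comm.mpr (mem_center_iff.mp (hZ hc) _).symm] <;>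
        exact one_mem _
    · exact ⟨by simp, mem_zpowers _⟩
    · exact ⟨by rw [← commutatorElement_inv u v]; exact inv_mem (mem_zpowers _), by simp⟩
  rw [_root_.commutator_def, commutator_le]
  intro a _ b _
  let T' : Subgroup X :=
    { carrier := {y | ⁅a, y⁆ ∈ zpowers ⁅u, v⁆}
      one_mem' := by simp
      mul_mem' := fun {y y'} hy hy' => by
        simp only [Set.mem_ofPred_eq, PGroup.comm_mul_right hcl]; exact mul_mem hy hy'
      inv_mem' := fun {y} hy => by
        simp only [Set.mem_ofPred_eq, PGroup.comm_inv_right hcl]; exact inv_mem hy }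
  refine (sup_le (sup_le (fun c hc => ?_) (zpowers_le.mpr (hT a).1)) (zpowers_le.mpr (hT a).2) :
    Z ⊔ zpowers u ⊔ zpowers v ≤ T') (htop.ge (mem_top b))
  show ⁅a, c⁆ ∈ zpowers ⁅u, v⁆
  rw [commutatorElement_eq_one_iff_mul_comm.mpr (mem_center_iff.mp (hZ hc) a)]; exact one_mem _

/-- The conclusion in the rotating case. -/
theorem conclusion_of_rotating (S : Setting X) :
    Cfsg.IsSpecial 2 X ∧ Nat.card X = 64 ∧ Nat.card {x : X // orderOf x = 2} = 3 ∧
      ∀ x : X, orderOf x = 2 → x ∈ center X := by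
  classical
  haveI : Fact (Nat.Prime 2) := ⟨Nat.prime_two⟩
  haveI := S.normal_W
  have hWc := S.hWc
  have hWe := S.hWe
  have hW4 := S.hW4
  have hsq : ∀ x : X, x * x ∈ S.W := sq_mem S
  have hcl := commutator_le_center hWc hsq
  have hodd : Odd (orderOf S.a) := S.hodd.of_dvd_nat (S.A.orderOf_dvd_natCard S.haA)
  -- the centre
  have hZW : center X ≤ S.W := by
    intro x hx
    rw [S.hWdef]
    refine ⟨hx, ?_⟩
    by_contra hx2
    let H : Subgroup X := (MonoidHom.mk' (fun z : center X => (z : X) * z) fun a b => by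
      show (a : X) * b * ((a : X) * b) = (a : X) * a * ((b : X) * b)
      rw [show (a : X) * b * ((a : X) * b) = (a : X) * ((b : X) * a) * b by simp only [mul_assoc],
        mem_center_iff.mp a.2 (b : X)]
      simp only [mul_assoc]).range
    have hH : ∀ w ∈ H, S.a w ∈ H := by
      rintro _ ⟨z, rfl⟩
      exact ⟨⟨S.a z, Subgroup.characteristic_iff_le_comap.mp centerCharacteristic S.a z.2⟩,
        (map_mul S.a (z : X) z).symm⟩
    have hle := S.W_le_of_invariant hH (w := x * x) ⟨⟨x, hx⟩, rfl⟩ (hsq x) hx2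
    refine S.hna ⟨⟨fun g k => ?_⟩⟩
    obtain ⟨z, hz⟩ := hle (hsq g)
    have hz' : (z : X) * z = g * g := hz
    have hg : g ∈ center X := by
      have h1 : g * (z : X)⁻¹ * (g * (z : X)⁻¹) = 1 := by
        have hc : (z : X)⁻¹ * g = g * (z : X)⁻¹ := (mem_center_iff.mp (inv_mem z.2) g).symm
        calc g * (z : X)⁻¹ * (g * (z : X)⁻¹) = g * ((z : X)⁻¹ * g) * (z : X)⁻¹ := by
              simp only [mul_assoc]
          _ = g * g * ((z : X) * z)⁻¹ := by rw [hc, mul_inv_rev]; simp only [mul_assoc]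
          _ = 1 := by rw [hz', mul_inv_cancel]
      have h2 := mem_of_sq_eq_one S.hs hWc hW4 hWe h1 fun k => comm_mem hWc hsq k _
      rw [show g = g * (z : X)⁻¹ * z by group]
      exact mul_mem (hWc h2) z.2
    exact (mem_center_iff.mp hg k).symm
  have hcen : center X = S.W := le_antisymm hZW hWc
  have hinv : ∀ x : X, x * x = 1 → x ∈ S.W := fun x hx =>
    mem_of_sq_eq_one S.hs hWc hW4 hWe hx fun g => comm_mem hWc hsq g x
  have h64 := card_le_64 hWc hWe hsq S.hX hW4 hinv
  have hcomW : commutator X ≤ S.W := by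
    rw [_root_.commutator_def, commutator_le]
    exact fun a _ b _ => comm_mem hWc hsq a b
  have hWcom : S.W ≤ commutator X := by
    obtain ⟨p, q, hpq⟩ : ∃ p q : X, ⁅p, q⁆ ≠ 1 := by
      by_contra h
      push Not at h
      exact S.hna ⟨⟨fun p q => commutatorElement_eq_one_iff_mul_comm.mp (h p q)⟩⟩
    refine S.W_le_of_invariant (fun w hw => ?_) (PGroup.commutatorElement_mem_commutator p q)
      (comm_mem hWc hsq p q) hpq
    exact Subgroup.characteristic_iff_le_comap.mp (inferInstance : (commutator X).Characteristic) S.a hw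
  obtain ⟨w0, hw0, hw01⟩ : ∃ w0 ∈ S.W, w0 ≠ 1 := by
    by_contra h
    push Not at h
    have := card_le_of_le (show S.W ≤ ⊥ from fun w hw => h w hw)
    rw [hW4, card_bot] at this
    omega
  have hw1 : S.a w0 ≠ w0 := fun h => hw01 (S.hfree _ hw0 h)
  have hw2 : S.a (S.a w0) ≠ w0 := fun h => hw1 (by
    have := pow_apply_of_invol h hodd
    rw [pow_orderOf_eq_one, MulAut.one_apply] at this
    exact this.symm)
  have hw3 : S.a (S.a w0) ≠ S.a w0 := fun h => hw1 (S.a.injective h)
  have hno32 : Nat.card X ≠ 32 := by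
    intro h32
    haveI := Fintype.ofFinite X
    let T : Finset X := Finset.univ.filter fun x => x ∉ S.W
    have hT : T.card = 28 := by
      have h1 := Finset.card_filter_add_card_filter_not (s := (Finset.univ : Finset X)) fun x => x ∈ S.W
      have h2 : (Finset.univ.filter fun x : X => x ∈ S.W).card = 4 := by
        rw [← hW4, Nat.card_eq_fintype_card, Fintype.card_subtype]
      rw [h2, Finset.card_univ, ← Nat.card_eq_fintype_card, h32] at h1
      simp only [T]
      omega
    have hmap : ∀ x ∈ T, x * x ∈ ({w0, S.a w0, S.a (S.a w0)} : Finset X) := by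
      intro x hx
      simp only [T, Finset.mem_filter, Finset.mem_univ, true_and] at hx
      simp only [Finset.mem_insert, Finset.mem_singleton]
      have hx2 : x * x ≠ 1 := fun h => hx (hinv x h)
      by_contra h
      push Not at h
      haveI := Fintype.ofFinite S.W
      let f : Fin 5 → S.W := ![1, ⟨x * x, hsq x⟩, ⟨w0, hw0⟩, ⟨S.a w0, S.map_W hw0⟩,
        ⟨S.a (S.a w0), S.map_W (S.map_W hw0)⟩]
      have e1 : S.a w0 ≠ 1 := fun e => hw01 (S.a.injective (e.trans (map_one _).symm))
      have e2 : S.a (S.a w0) ≠ 1 := fun e => e1 (S.a.injective (e.trans (map_one _).symm))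
      have hf : Function.Injective f := by
        intro i j hij
        have h' : (f i : X) = f j := congrArg Subtype.val hij
        fin_cases i <;> fin_cases j <;>
          simp [f, hx2, hx2.symm, hw01, hw01.symm, hw1, hw1.symm, hw2, hw2.symm, hw3, hw3.symm, e1,
            e1.symm, e2, e2.symm, h.1, h.1.symm, h.2.1, h.2.1.symm, h.2.2, h.2.2.symm] at h' ⊢
      have := Nat.card_le_card_of_injective f hf
      rw [Nat.card_fin, hW4] at this
      omega
    have hfib : ∀ w : X, (T.filter fun x => x * x = S.a w).card = (T.filter fun x => x * x = w).card := by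
      intro w
      refine Finset.card_bij' (fun x _ => S.a.symm x) (fun x _ => S.a x) ?_ ?_ ?_ ?_
      · intro x hx
        simp only [T, Finset.mem_filter, Finset.mem_univ, true_and] at hx ⊢
        refine ⟨fun h => hx.1 ?_, by rw [← map_mul, hx.2, MulEquiv.symm_apply_apply]⟩
        have := S.map_W (φ := S.a) h
        rwa [MulEquiv.apply_symm_apply] at this
      · intro x hx
        simp only [T, Finset.mem_filter, Finset.mem_univ, true_and] at hx ⊢
        refine ⟨fun h => hx.1 ?_, by rw [← map_mul, hx.2]⟩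
        have := S.map_W (φ := S.a.symm) h
        rwa [MulEquiv.symm_apply_apply] at this
      · intro x _; exact S.a.apply_symm_apply x
      · intro x _; exact S.a.symm_apply_apply x
    have hsum := Finset.card_eq_sum_card_fiberwise (f := fun x : X => x * x) (s := T)
      (t := {w0, S.a w0, S.a (S.a w0)}) hmap
    rw [Finset.sum_insert (by simp [hw1.symm, hw2.symm]), Finset.sum_insert (by simp [hw3.symm]),
      Finset.sum_singleton, hfib, hfib, hfib, hT] at hsum
    omega
  have hsmall : ¬ Nat.card X ≤ 16 := by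
    intro h16
    obtain ⟨u, -, hu⟩ : ∃ u ∈ (⊤ : Subgroup X), u ∉ S.W :=
      SetLike.exists_of_lt (lt_top_iff_ne_top.mpr fun h => S.hna ⟨⟨fun g k => by
        exact (mem_center_iff.mp (hWc (h.ge (mem_top g))) k).symm⟩⟩)
    obtain ⟨v, htop⟩ : ∃ v, S.W ⊔ zpowers u ⊔ zpowers v = ⊤ := by
      by_cases h : S.W ⊔ zpowers u = ⊤
      · exact ⟨1, by rw [h]; exact top_sup_eq _⟩
      obtain ⟨v, -, hv⟩ := SetLike.exists_of_lt (lt_top_iff_ne_top.mpr h)
      refine ⟨v, eq_top_of_le_card _ ?_⟩
      have h1 : S.W < S.W ⊔ zpowers u :=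
        lt_of_le_of_ne le_sup_left fun h => hu (h ▸ mem_sup_right (mem_zpowers u))
      have h2 : S.W ⊔ zpowers u < S.W ⊔ zpowers u ⊔ zpowers v :=
        lt_of_le_of_ne le_sup_left fun h => hv (h.symm ▸ mem_sup_right (mem_zpowers v))
      obtain ⟨b, hb⟩ := PGroup.exists_card_eq_pow S.hX (S.W ⊔ zpowers u)
      obtain ⟨c, hc⟩ := PGroup.exists_card_eq_pow S.hX (S.W ⊔ zpowers u ⊔ zpowers v)
      have l1 : Nat.card S.W < Nat.card (S.W ⊔ zpowers u : Subgroup X) := lt_of_le_of_ne
        (card_le_of_le h1.le) fun h => h1.ne (eq_of_le_of_card_ge h1.le h.ge)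
      have l2 : Nat.card (S.W ⊔ zpowers u : Subgroup X) < Nat.card (S.W ⊔ zpowers u ⊔ zpowers v : Subgroup X) :=
        lt_of_le_of_ne (card_le_of_le h2.le) fun h => h2.ne (eq_of_le_of_card_ge h2.le h.ge)
      rw [hW4, hb, show 4 = 2 ^ 2 from rfl, Nat.pow_lt_pow_iff_right (by norm_num)] at l1
      rw [hb, hc, Nat.pow_lt_pow_iff_right (by norm_num)] at l2
      have : 2 ^ 4 ≤ 2 ^ c := Nat.pow_le_pow_right (by norm_num) (by omega)
      rw [hc]
      omega
    have h1 := card_le_of_le (hWcom.trans (commutator_le_zpowers hcl hWc htop))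
    rw [Nat.card_zpowers, hW4] at h1
    have h2 : orderOf ⁅u, v⁆ ≤ 2 := Nat.le_of_dvd two_pos
      (orderOf_dvd_of_pow_eq_one (by rw [pow_two]; exact hWe _ (comm_mem hWc hsq u v)))
    omega
  have hcard : Nat.card X = 64 := by
    obtain ⟨n, hn⟩ := IsPGroup.iff_card.mp S.hX
    rw [hn] at h64 hno32 hsmall ⊢
    have h1 : n ≤ 6 := by
      by_contra h
      have : 2 ^ 7 ≤ 2 ^ n := Nat.pow_le_pow_right (by norm_num) (by omega)
      omega
    interval_cases n <;> omega
  have hfr : frattini X = center X := by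
    refine le_antisymm ?_ ?_
    · rw [PGroup.frattini_eq_closure_sq S.hX, closure_le]
      rintro _ ⟨g, rfl⟩
      show g ^ 2 ∈ center X
      rw [pow_two]
      exact hWc (hsq g)
    · rw [hcen]; exact hWcom.trans (PGroup.commutator_le_frattini S.hX)
  refine ⟨⟨S.hX, hfr, by rw [hcen]; exact le_antisymm hcomW hWcom⟩, hcard, ?_, fun x hx => hWc (hinv x ?_)⟩
  · haveI := Fintype.ofFinite X
    have h1 : (Finset.univ.filter fun x : X => orderOf x = 2) =
        (Finset.univ.filter fun x : X => x ∈ S.W).erase 1 := by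
      ext x
      simp only [Finset.mem_filter, Finset.mem_univ, true_and, Finset.mem_erase]
      rw [orderOf_eq_prime_iff, pow_two]
      exact ⟨fun h => ⟨h.2, hinv x h.1⟩, fun h => ⟨hWe x h.2, h.1⟩⟩
    rw [Nat.card_eq_fintype_card, Fintype.card_subtype, h1, Finset.card_erase_of_mem (by simp),
      ← Fintype.card_subtype, ← Nat.card_eq_fintype_card, hW4]
  · rw [← pow_two, ← hx, pow_orderOf_eq_one]

/-- The classification. -/
theorem classification (hX : IsPGroup 2 X) (hna : ¬ IsMulCommutative X) (hs : Small X)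
    (A : Subgroup (MulAut X)) (hA : Odd (Nat.card A))
    (hXA : Subgroup.closure {g : X | ∃ φ ∈ A, ∃ x : X, g = x⁻¹ * φ x} = ⊤) :
    Nonempty (X ≃* QuaternionGroup 2) ∨
      (Cfsg.IsSpecial 2 X ∧ Nat.card X = 64 ∧ Nat.card {x : X // orderOf x = 2} = 3 ∧
        ∀ x : X, orderOf x = 2 → x ∈ Subgroup.center X) ∨
      (Cfsg.IsExtraspecial 2 X ∧ Nat.card X = 32 ∧ Nat.card {x : X // orderOf x = 2} = 11) := by
  classical
  haveI : Fact (Nat.Prime 2) := ⟨Nat.prime_two⟩
  have hord : ∀ φ ∈ A, Odd (orderOf φ) := fun φ hφ => hA.of_dvd_nat (A.orderOf_dvd_natCard hφ)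
  let W : Subgroup X :=
    { carrier := {z | z ∈ center X ∧ z * z = 1}
      one_mem' := ⟨one_mem _, one_mul 1⟩
      mul_mem' := fun {x y} hx hy => ⟨mul_mem hx.1 hy.1, by
        calc x * y * (x * y) = x * (y * x) * y := by simp only [mul_assoc]
          _ = (x * x) * (y * y) := by rw [mem_center_iff.mp hx.1 y]; simp only [mul_assoc]
          _ = 1 := by rw [hx.2, hy.2, one_mul]⟩
      inv_mem' := fun {x} hx => ⟨inv_mem hx.1, by rw [← mul_inv_rev, hx.2, inv_one]⟩ }
  have hWn : W.Normal := ⟨fun w hw g => by rwa [mem_center_iff.mp hw.1 g, mul_inv_cancel_right]⟩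
  have hWcard : Nat.card W ≤ 4 := hs W hWn
    ⟨⟨fun x y => Subtype.ext (mem_center_iff.mp x.2.1 y).symm⟩⟩ fun z hz => hz.2
  have hmap : ∀ (φ : MulAut X), ∀ w ∈ W, φ w ∈ W := fun φ w hw =>
    ⟨Subgroup.characteristic_iff_le_comap.mp centerCharacteristic φ hw.1,
      by rw [← map_mul, hw.2, map_one]⟩
  by_cases hfix : ∀ φ ∈ A, ∀ w ∈ W, φ w = w
  · refine conclusion_of_fixed hX hna hs A hA hXA fun H hH hHc φ hφ => ?_
    have hinv : ∀ x ∈ H, φ x ∈ H := fun x hx => Subgroup.characteristic_iff_le_comap.mp hH φ hx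
    refine fix_abelian hX hHc (hord φ hφ) hinv fun x hx hx2 => ?_
    haveI := hH
    let E : Subgroup X :=
      { carrier := {e | e ∈ H ∧ e * e = 1}
        one_mem' := ⟨one_mem _, one_mul 1⟩
        mul_mem' := fun {x y} hx hy => ⟨mul_mem hx.1 hy.1, by
          have h : x * y = y * x := congrArg Subtype.val (hHc.is_comm.comm (⟨x, hx.1⟩ : H) ⟨y, hy.1⟩)
          calc x * y * (x * y) = x * (y * x) * y := by simp only [mul_assoc]
            _ = (x * x) * (y * y) := by rw [← h]; simp only [mul_assoc]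
            _ = 1 := by rw [hx.2, hy.2, one_mul]⟩
        inv_mem' := fun {x} hx => ⟨inv_mem hx.1, by rw [← mul_inv_rev, hx.2, inv_one]⟩ }
    have hEn : E.Normal := ⟨fun e he g => ⟨(inferInstance : H.Normal).conj_mem e he.1 g, by
      rw [show g * e * g⁻¹ * (g * e * g⁻¹) = g * (e * e) * g⁻¹ by group, he.2]; group⟩⟩
    have hE4 : Nat.card E ≤ 4 := hs E hEn
      ⟨⟨fun x y => Subtype.ext (congrArg Subtype.val (hHc.is_comm.comm (⟨x, x.2.1⟩ : H) ⟨y, y.2.1⟩) : _)⟩⟩
      fun e he => he.2
    by_cases hx1 : x = 1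
    · rw [hx1, map_one]
    have hHne : H ≠ ⊥ := fun h => hx1 (mem_bot.mp (h ▸ hx))
    obtain ⟨e, he, he1, he2⟩ :=
      PGroup.exists_mem_pow_eq_one hX (PGroup.inf_center_ne_bot hX (N := H) hHne)
    rw [pow_two] at he2
    exact fix_of_small hE4 (hord φ hφ) (fun z hz => ⟨hinv z hz.1, by rw [← map_mul, hz.2, map_one]⟩)
      ⟨he.1, he2⟩ he1 (hfix φ hφ e ⟨he.2, he2⟩) x ⟨hx, hx2⟩
  · push Not at hfix
    obtain ⟨a, ha, w0, hw0, hw1⟩ := hfix
    have hw01 : w0 ≠ 1 := fun h => hw1 (by rw [h, map_one])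
    have hw2 : a (a w0) ≠ w0 := fun h => hw1 (by
      have := pow_apply_of_invol h (hord a ha)
      rw [pow_orderOf_eq_one, MulAut.one_apply] at this
      exact this.symm)
    have e1 : a w0 ≠ 1 := fun e => hw01 (a.injective (e.trans (map_one _).symm))
    have hfree : ∀ w ∈ W, a w = w → w = 1 := fun w hw h => by
      by_contra hw'
      exact hw1 (fix_of_small hWcard (hord a ha) (hmap a) hw hw' h w0 hw0)
    have hW4 : Nat.card W = 4 := by
      let f : Fin 3 → W := ![1, ⟨w0, hw0⟩, ⟨a w0, hmap a w0 hw0⟩]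
      have hf : Function.Injective f := by
        intro i j hij
        have h' : (f i : X) = f j := congrArg Subtype.val hij
        fin_cases i <;> fin_cases j <;>
          simp [f, hw01, hw01.symm, hw1, Ne.symm hw1, e1, e1.symm] at h' ⊢
      have h3 := Nat.card_le_card_of_injective f hf
      rw [Nat.card_fin] at h3
      obtain ⟨n, hn⟩ := PGroup.exists_card_eq_pow hX W
      rw [hn] at h3 hWcard ⊢
      rcases n with _ | _ | _ | n
      · omega
      · omega
      · rfl
      · have : 2 ^ 3 ≤ 2 ^ (n + 1 + 1 + 1) := Nat.pow_le_pow_right (by norm_num) (by omega)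
        omega
    have hAi : ∀ φ ∈ A, ∃ i : ℕ, i < 3 ∧ ∀ w ∈ W, φ w = (a ^ i) w := by
      intro φ hφ
      obtain ⟨i, hi, hiw⟩ : ∃ i : ℕ, i < 3 ∧ φ w0 = (a ^ i) w0 := by
        by_contra h
        push Not at h
        have h0 : φ w0 ≠ w0 := by simpa using h 0 (by norm_num)
        have h1 : φ w0 ≠ a w0 := by simpa using h 1 (by norm_num)
        have h2 : φ w0 ≠ a (a w0) := by
          have := h 2 (by norm_num)
          rwa [pow_two, MulAut.mul_apply] at this
        have e3 : φ w0 ≠ 1 := fun e => hw01 (φ.injective (e.trans (map_one _).symm))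
        have e2 : a (a w0) ≠ 1 := fun e => e1 (a.injective (e.trans (map_one _).symm))
        have e4 : a (a w0) ≠ a w0 := fun e => hw1 (a.injective e)
        let f : Fin 5 → W := ![1, ⟨w0, hw0⟩, ⟨a w0, hmap a w0 hw0⟩,
          ⟨a (a w0), hmap a _ (hmap a w0 hw0)⟩, ⟨φ w0, hmap φ w0 hw0⟩]
        have hf : Function.Injective f := by
          intro i j hij
          have h' : (f i : X) = f j := congrArg Subtype.val hij
          fin_cases i <;> fin_cases j <;>
            simp [f, hw01, hw01.symm, hw1, Ne.symm hw1, hw2, hw2.symm, e1, e1.symm, e2, e2.symm, e3,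
              e3.symm, e4, e4.symm, h0, h0.symm, h1, h1.symm, h2, h2.symm] at h' ⊢
        have h3 := Nat.card_le_card_of_injective f hf
        rw [Nat.card_fin, hW4] at h3
        omega
      refine ⟨i, hi, fun w hw => ?_⟩
      have hψ : ((a ^ i)⁻¹ * φ) w0 = w0 := by
        rw [MulAut.mul_apply, hiw, MulAut.inv_apply_self]
      have := fix_of_small hWcard (hord _ (mul_mem (inv_mem (pow_mem ha i)) hφ)) (hmap _) hw0 hw01 hψ w hw
      rw [MulAut.mul_apply] at this
      conv_rhs => rw [← this]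
      rw [MulAut.apply_inv_self]
    exact Or.inr (Or.inl (conclusion_of_rotating
      { W := W, A := A, a := a, hX := hX, hs := hs, haA := ha, hWdef := fun x => Iff.rfl, hW4 := hW4,
        hfree := hfree, hgen := hXA, hA := hAi, hodd := hA, hna := hna }))

end Cfsg.Agent.ClassTech.SCNFour
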